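import Cfsg.Agent.Lib.Extra.SuzUnique.Rewrite

/-! Generated certificate. -/

set_option autoImplicit false
set_option maxRecDepth 20000

namespace Cfsg.Lib.Extra.SuzUnique.RelData

open Cfsg.Lib.Extra.SuzUnique

/-- Records. -/
def cubeRecs0 : List Rec :=
  [.norm [10, 9, 8, 1, 0, 8, 9, 6, 1, 0, 10, 9, 10, 9] (some (0, 0, false, [])) [(12, 10, [0, 1, 6, 9, 8, 0, 1, 8]), (10, 10, [0, 1, 6, 9, 8, 0, 1, 8]), (0, 18, [])],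
    .norm [8, 4, 2, 6, 8, 10, 0, 8, 4, 8, 5, 4, 2, 10, 8, 4, 8, 2, 6, 2, 6, 8, 4, 2, 8, 4, 0, 9, 10, 8, 0, 4, 0, 8, 10, 8, 4, 8, 2, 1, 10, 9] (some (3, 0, false, [8, 2, 9, 4, 2, 0, 8, 6, 1, 2])) [(40, 21, [8, 2, 9, 8, 9, 2, 4]), (34, 22, [1, 9, 8, 0, 1, 8, 4]), (28, 22, [6, 0, 2, 1, 2, 7]), (13, 30, [6, 0, 2, 0, 2, 7, 0, 1]), (5, 25, [1, 2, 5, 6, 1, 0, 5, 2])],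
    .norm [0, 2, 8, 4, 8, 10, 1, 8, 4, 1, 2, 6, 3, 8, 2, 10, 8, 4, 8, 2, 8, 9, 4, 8, 6, 4, 0, 4, 8, 10, 8, 4, 2, 8, 4, 10, 8, 6, 2, 4, 8, 10, 9] (some (3, 0, false, [6, 8, 0, 5, 8, 0, 4, 1, 8])) [(41, 20, [2, 1, 6, 2, 1, 5, 2]), (35, 22, [1, 2, 8, 2, 8, 6, 0, 2]), (29, 23, [2, 1, 4, 0, 1, 2]), (15, 29, [1, 2, 6, 0, 2, 5, 6]), (5, 26, [1, 0, 2, 1, 7, 2, 0, 1])],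
    .norm [8, 4, 2, 6, 8, 10, 5, 4, 0, 8, 4, 8, 5, 4, 2, 10, 8, 4, 8, 2, 4, 8, 0, 4, 0, 8, 10, 6, 8, 6, 9, 8, 1, 5, 8, 2, 10, 8, 4, 8, 2, 1, 10] (some (3, 0, false, [5, 2, 8, 4, 8, 0, 4, 8, 1])) [(42, 19, [2, 1, 6, 0, 4, 2, 1, 7]), (36, 23, [1, 4, 2, 5, 2, 6]), (26, 25, [1, 2, 4, 7, 2, 4]), (15, 26, [0, 2, 0, 3, 6, 2, 1, 0]), (5, 27, [1, 4, 6, 0, 5, 2, 0])],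
    .norm [1, 2, 8, 4, 8, 10, 2, 6, 5, 1, 8, 4, 1, 0, 8, 10, 8, 4, 8, 2, 4, 8, 0, 4, 0, 8, 10, 1, 4, 8, 6, 8, 1, 8, 0, 4, 10, 8, 6, 2, 4, 8, 10] (some (3, 0, false, [2, 4, 1, 8, 6, 4, 0, 4, 8, 5])) [(42, 20, [1, 4, 6, 8, 2, 8, 0]), (36, 22, [1, 0, 4, 6, 0, 6, 2]), (26, 26, [0, 4, 2, 6, 8, 2, 8]), (15, 27, [6, 2, 4, 6, 1, 2, 0]), (5, 26, [0, 7, 2, 1, 2, 0, 1, 6])],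
    .norm [0, 2, 8, 4, 8, 10, 1, 8, 0, 2, 4, 2, 1, 8, 5, 0, 10, 8, 4, 8, 2, 4, 8, 0, 4, 0, 8, 10, 0, 3, 4, 0, 2, 8, 6, 2, 6, 8, 6, 10, 8, 0, 2, 1, 8, 2, 10] (some (1, 0, false, [1, 8, 4, 2, 1, 6, 2, 8])) [(46, 18, [5, 0, 2, 1, 6, 2, 1]), (39, 23, [5, 0, 6, 2, 7, 0, 2]), (27, 28, [1, 2, 4, 2, 4, 5]), (16, 26, [2, 8, 6, 0, 6, 8, 1]), (5, 27, [4, 2, 1, 7, 2, 4, 2])],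
    .norm [0, 2, 8, 4, 8, 10, 2, 8, 4, 8, 10, 2, 4, 5, 8, 4, 8, 0, 4, 5, 0, 8, 4, 8, 5, 4, 2, 10, 8, 4, 8, 2, 10, 8, 4, 8, 2, 0, 9, 8, 1, 0, 8, 9, 6, 1, 0, 10, 9] (some (1, 0, false, [6, 8, 0, 5, 8, 0, 4, 1, 8])) [(47, 20, [1, 6, 1, 2, 0, 2, 7]), (32, 31, [3, 6, 1, 2, 5, 2]), (27, 20, [1, 0, 1, 3, 5]), (10, 31, [2, 1, 9, 4, 6, 9, 6]), (5, 21, [1, 0, 2, 1, 7, 2, 0, 1])],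
    .norm [0, 2, 8, 4, 8, 10, 4, 9, 6, 2, 4, 3, 1, 10, 9, 10, 8, 4, 8, 2, 1] (some (0, 0, false, [5, 0, 8, 0, 8, 6, 8, 4, 2, 0])) [(15, 22, [0, 1, 9, 6, 0, 5, 9]), (13, 9, [1, 4, 6, 7, 2, 1]), (5, 14, [0, 2, 0, 2, 9, 4, 6, 9, 0])],
    .norm [8, 4, 2, 6, 8, 10, 4, 8, 2, 4, 8, 10, 8, 4, 0, 4, 6, 8, 4, 9, 8, 9, 8, 9, 0, 1, 8, 5, 1, 10, 9, 6, 2, 6, 8, 4, 2, 8, 4, 0, 9, 10, 8, 0, 4, 0, 8, 10, 8, 4, 8, 2, 1] (some (1, 0, false, [8, 2, 4, 8, 5, 3, 2, 0, 8])) [(47, 24, [0, 1, 5, 6, 0, 5]), (41, 21, [1, 6, 2, 1, 2, 0, 2, 5]), (29, 29, [0, 6, 2, 0, 2, 1, 6, 7]), (11, 35, [6, 2, 6, 1, 2, 5, 2]), (5, 22, [1, 3, 6, 7, 2, 0, 2, 1])],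
    .norm [2, 8, 1, 2, 0, 8, 10, 6, 8, 6, 2, 6, 8, 2, 0, 4, 3, 0, 10, 8, 0, 4, 0, 8, 4, 9, 6, 2, 4, 3, 1, 10, 9, 8, 0, 4, 0, 8, 10, 9, 0, 4, 8, 2, 4, 8, 6, 2, 6, 10, 8, 4, 8, 2, 0] (some (3, 0, false, [2, 7, 1, 2, 0, 8, 4, 8, 5, 2, 0])) [(49, 24, [0, 2, 1, 4, 0, 2, 1, 5]), (38, 28, [1, 9, 4, 0, 9, 1]), (31, 22, [2, 3, 6, 1, 0, 7, 0]), (18, 29, [2, 8, 2, 7, 8, 0]), (6, 27, [0, 1, 4, 0, 5, 0, 2])],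
    .norm [1, 2, 8, 4, 8, 10, 9, 8, 9, 0, 1, 8, 5, 1, 10, 9, 10, 8, 4, 8, 2, 0] (some (0, 0, false, [2, 4, 8, 4, 9, 2, 1, 8, 9, 4, 0])) [(16, 23, [2, 0, 2, 3, 4, 6, 0, 1]), (14, 10, [0, 2, 1, 2, 9, 1, 6, 9]), (5, 17, [6, 0, 5, 2, 4, 6, 0])],
    .norm [8, 4, 2, 6, 8, 10, 4, 0, 8, 1, 8, 6, 8, 4, 1, 10, 8, 0, 4, 0, 8, 4, 9, 10, 1, 3, 4, 2, 6, 9, 8, 0, 4, 0, 8, 10, 6, 8, 6, 9, 8, 1, 5, 8, 2, 10, 8, 4, 8, 2, 1] (some (1, 0, false, [8, 2, 4, 8, 5, 3, 2, 0, 8])) [(45, 24, [0, 1, 5, 6, 0, 5]), (35, 25, [0, 1, 4, 2, 1, 2, 0, 7]), (23, 29, [0, 1, 0, 5, 6, 0, 1]), (15, 24, [0, 2, 3, 6, 1, 2, 6, 7]), (5, 27, [1, 3, 6, 7, 2, 0, 2, 1])],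
    .norm [1, 8, 4, 1, 2, 6, 3, 8, 2, 10, 8, 4, 5, 1, 8, 9, 6, 8, 6, 10, 8, 0, 4, 0, 8, 2, 8, 4, 8, 10, 0, 5, 8, 1, 2, 4, 2, 0, 8, 1] (some (0, 0, false, [8, 4, 8, 2, 4, 8, 4, 0, 2, 1])) [(29, 29, [1, 4, 5, 2, 1, 4, 5]), (19, 17, [0, 1, 2, 0, 1]), (9, 15, [4, 2, 0, 6, 1, 7, 2])],
    .prod [1, 2, 8, 4, 8, 10, 2, 6, 5, 1, 8, 4, 1, 0, 8, 10, 8, 4, 8, 2, 10, 8, 4, 8, 2, 1, 10, 9, 1, 2, 8, 4, 8, 10, 2, 6, 5, 1, 8, 4, 1, 0, 8, 10, 8, 4, 8, 2, 10, 8, 4, 8, 2, 1, 10, 9, 1, 2, 8, 4, 8, 10, 2, 6, 5, 1, 8, 4, 1, 0, 8, 10, 8, 4, 8, 2, 10, 8, 4, 8, 2, 1, 10, 9] [([], 4, true), ([10, 8, 4, 2, 6, 8, 10, 4, 0, 8, 1, 8, 6, 8, 4, 1, 10, 8, 0, 4, 0, 8, 4, 10, 8, 4, 8, 2, 1], 7, true),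 ([10], 11, true), ([9, 10, 1, 2, 8, 4, 8, 10, 8, 0, 4, 0, 8, 10, 9, 0, 4, 8, 2, 4, 8, 6, 2, 6, 10, 8, 4, 8, 2, 0, 10, 9, 10], 6, false), ([9, 10, 1, 2, 8, 4, 8, 10, 8, 0, 4, 0, 8, 10, 9, 0, 4, 8, 2, 4, 8, 6, 2, 6, 10, 8, 4, 8, 2, 0, 10, 9, 10, 0, 2, 8, 4, 8, 10, 2, 8, 4, 8, 10, 2, 4, 5, 8, 4, 8, 0, 4, 5, 0, 8, 4, 8, 5, 4, 2, 10, 8, 4, 8, 2, 10, 8, 4, 8, 2, 0, 10], 0, true), ([9, 10, 1, 2, 8, 4, 8, 10, 8, 0, 4, 0, 8, 10, 9, 0, 4, 8, 2, 4, 8, 6, 2, 6, 10, 8, 4, 8, 2, 0, 10, 9, 10, 0, 2, 8, 4, 8, 10, 2, 8, 4, 8, 10, 2, 4, 5, 8, 4, 8, 0, 4, 5, 10, 8, 6, 2, 4, 8], 1, true), ([9, 10, 1, 2, 8, 4, 8, 10, 8, 0, 4, 0, 8, 10, 9, 0, 4, 8, 2, 4, 8, 6, 2, 6, 10, 8, 4, 8, 2, 0, 10,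 9, 10, 0, 2, 8, 4, 8, 10, 4, 8, 0, 4, 0, 8, 10, 6, 8, 6, 9, 8, 1, 5, 8, 2, 10, 8, 4, 8, 2, 1, 10], 3, false), ([9, 10, 1, 2, 8, 4, 8, 10, 8, 0, 4, 0, 8, 10, 9, 0, 4, 8, 2, 4, 8, 6, 2, 6, 10, 8, 4, 8, 2, 0, 10], 4, true), ([9, 10, 1, 2, 8, 4, 8, 10, 8, 0, 4, 0, 8, 10, 9, 0, 4, 8, 2, 4, 8, 6, 2, 6, 10, 8, 4, 8, 2, 0, 8, 4, 2, 6, 8, 10, 4, 0, 8, 1, 8, 6, 8, 4, 1, 10, 8, 0, 4, 0, 8, 4, 10, 8, 4, 8, 2, 1], 7, true), ([9, 10, 1, 2, 8, 4, 8, 10, 8, 0, 4, 0, 8, 10, 9, 0, 4, 8, 2, 4, 8, 6, 2, 6, 10, 8, 4, 8, 2, 0], 11, true), ([9, 10, 1, 2, 8, 4, 8, 10, 8, 0, 4, 0, 8, 10, 9, 0, 4, 8, 2, 4, 8, 6, 2, 6, 10, 8, 4, 8, 2, 0, 10, 9, 10, 1, 2, 8, 4, 8, 10, 8, 0, 4, 0, 8, 10, 9, 0, 4,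 8, 2, 4, 8, 6, 2, 6, 10, 8, 4, 8, 2, 0, 10, 9, 10], 6, false), ([9, 10, 1, 2, 8, 4, 8, 10, 8, 0, 4, 0, 8, 10, 9, 0, 4, 8, 2, 4, 8, 6, 2, 6, 10, 8, 4, 8, 2, 0, 10, 9, 10, 1, 2, 8, 4, 8, 10, 8, 0, 4, 0, 8, 10, 9, 0, 4, 8, 2, 4, 8, 6, 2, 6, 10, 8, 4, 8, 2, 0, 10, 9, 10, 0, 2, 8, 4, 8, 10, 2, 8, 4, 8, 10, 2, 4, 5, 8, 4, 8, 0, 4, 5, 0, 8, 4, 8, 5, 4, 2, 10, 8, 4, 8, 2, 10, 8, 4, 8, 2, 0, 10], 0, true), ([9, 10, 1, 2, 8, 4, 8, 10, 8, 0, 4, 0, 8, 10, 9, 0, 4, 8, 2, 4, 8, 6, 2, 6, 10, 8, 4, 8, 2, 0, 10, 9, 10, 1, 2, 8, 4, 8, 10, 8, 0, 4, 0, 8, 10, 9, 0, 4, 8, 2, 4, 8, 6, 2, 6, 10, 8, 4, 8, 2, 0, 10, 9, 10, 0, 2, 8, 4, 8, 10, 2, 8, 4, 8, 10, 2, 4, 5, 8, 4, 8, 0, 4, 5, 10, 8,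 6, 2, 4, 8], 1, true), ([9, 10, 1, 2, 8, 4, 8, 10, 8, 0, 4, 0, 8, 10, 9, 0, 4, 8, 2, 4, 8, 6, 2, 6, 10, 8, 4, 8, 2, 0, 10, 9, 10, 1, 2, 8, 4, 8, 10, 8, 0, 4, 0, 8, 10, 9, 0, 4, 8, 2, 4, 8, 6, 2, 6, 10, 8, 4, 8, 2, 0, 10, 9, 10, 0, 2, 8, 4, 8, 10, 4, 8, 0, 4, 0, 8, 10, 6, 8, 6, 9, 8, 1, 5, 8, 2, 10, 8, 4, 8, 2, 1, 10], 3, false), ([9, 10, 1, 2, 8, 4, 8, 10, 8, 0, 4, 0, 8, 10, 9, 0, 4, 8, 2, 4, 8, 6, 2, 6, 10, 8, 4, 8, 2, 0, 10, 9, 10, 1, 2, 8, 4, 8, 10, 8, 0, 4, 0, 8, 10, 9, 0, 4, 8, 2, 4, 8, 6, 2, 6, 10, 8, 4, 8, 2, 0, 10], 4, true), ([9, 10, 1, 2, 8, 4, 8, 10, 8, 0, 4, 0, 8, 10, 9, 0, 4, 8, 2, 4, 8, 6, 2, 6, 10, 8, 4, 8, 2, 0, 10, 9, 10, 1, 2, 8, 4, 8, 10, 8, 0, 4,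 0, 8, 10, 9, 0, 4, 8, 2, 4, 8, 6, 2, 6, 10, 8, 4, 8, 2, 0, 8, 4, 2, 6, 8, 10, 4, 0, 8, 1, 8, 6, 8, 4, 1, 10, 8, 0, 4, 0, 8, 4, 10, 8, 4, 8, 2, 1], 7, true), ([9, 10, 1, 2, 8, 4, 8, 10, 8, 0, 4, 0, 8, 10, 9, 0, 4, 8, 2, 4, 8, 6, 2, 6, 10, 8, 4, 8, 2, 0, 10, 9, 10, 1, 2, 8, 4, 8, 10, 8, 0, 4, 0, 8, 10, 9, 0, 4, 8, 2, 4, 8, 6, 2, 6, 10, 8, 4, 8, 2, 0], 11, true), ([9, 10, 1, 2, 8, 4, 8, 10, 8, 0, 4, 0, 8, 10, 9, 0, 4, 8, 2, 4, 8, 6, 2, 6, 10, 8, 4, 8, 2, 0, 10, 9, 10, 1, 2, 8, 4, 8, 10, 8, 0, 4, 0, 8, 10, 9, 0, 4, 8, 2, 4, 8, 6, 2, 6, 10, 8, 4, 8, 2, 0, 10, 9, 10, 1, 2, 8, 4, 8, 10, 8, 0, 4, 0, 8, 10, 9, 0, 4, 8, 2, 4, 8, 6, 2, 6, 10, 8, 4, 8, 2, 0, 10, 9, 10], 6, false),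 ([9, 10, 1, 2, 8, 4, 8, 10, 8, 0, 4, 0, 8, 10, 9, 0, 4, 8, 2, 4, 8, 6, 2, 6, 10, 8, 4, 8, 2, 0, 10, 9, 10, 1, 2, 8, 4, 8, 10, 8, 0, 4, 0, 8, 10, 9, 0, 4, 8, 2, 4, 8, 6, 2, 6, 10, 8, 4, 8, 2, 0, 10, 9, 10, 1, 2, 8, 4, 8, 10, 8, 0, 4, 0, 8, 10, 9, 0, 4, 8, 2, 4, 8, 6, 2, 6, 10, 8, 4, 8, 2, 0, 10, 9, 10, 0, 2, 8, 4, 8, 10, 2, 8, 4, 8, 10, 2, 4, 5, 8, 4, 8, 0, 4, 5, 0, 8, 4, 8, 5, 4, 2, 10, 8, 4, 8, 2, 10, 8, 4, 8, 2, 0, 10], 0, true), ([9, 10, 1, 2, 8, 4, 8, 10, 8, 0, 4, 0, 8, 10, 9, 0, 4, 8, 2, 4, 8, 6, 2, 6, 10, 8, 4, 8, 2, 0, 10, 9, 10, 1, 2, 8, 4, 8, 10, 8, 0, 4, 0, 8, 10, 9, 0, 4, 8, 2, 4, 8, 6, 2, 6, 10, 8, 4, 8, 2, 0, 10, 9, 10, 1, 2, 8, 4, 8, 10, 8, 0, 4, 0, 8,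 10, 9, 0, 4, 8, 2, 4, 8, 6, 2, 6, 10, 8, 4, 8, 2, 0, 10, 9, 10, 0, 2, 8, 4, 8, 10, 2, 8, 4, 8, 10, 2, 4, 5, 8, 4, 8, 0, 4, 5, 10, 8, 6, 2, 4, 8], 1, true), ([9, 10, 1, 2, 8, 4, 8, 10, 8, 0, 4, 0, 8, 10, 9, 0, 4, 8, 2, 4, 8, 6, 2, 6, 10, 8, 4, 8, 2, 0, 10, 9, 10, 1, 2, 8, 4, 8, 10, 8, 0, 4, 0, 8, 10, 9, 0, 4, 8, 2, 4, 8, 6, 2, 6, 10, 8, 4, 8, 2, 0, 10, 9, 10, 1, 2, 8, 4, 8, 10, 8, 0, 4, 0, 8, 10, 9, 0, 4, 8, 2, 4, 8, 6, 2, 6, 10, 8, 4, 8, 2, 0, 10, 9, 10, 0, 2, 8, 4, 8, 10, 4, 8, 0, 4, 0, 8, 10, 6, 8, 6, 9, 8, 1, 5, 8, 2, 10, 8, 4, 8, 2, 1, 10], 3, false), ([9, 10, 1, 2, 8, 4, 8, 10, 8, 0, 4, 0, 8, 10, 9, 0, 4, 8, 2, 4, 8, 6, 2, 6, 10, 8, 4, 8, 2, 0, 10, 9, 10, 1, 2,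 8, 4, 8, 10, 8, 0, 4, 0, 8, 10, 9, 0, 4, 8, 2, 4, 8, 6, 2, 6, 10, 8, 4, 8, 2, 0, 10, 9, 10, 0, 2, 8, 4, 8, 10, 4, 8, 0, 4, 0, 8, 10, 6, 8, 6, 9, 8, 1, 5, 8, 2, 10, 8, 4, 8, 2, 1, 10], 3, true), ([9, 10, 1, 2, 8, 4, 8, 10, 8, 0, 4, 0, 8, 10, 9, 0, 4, 8, 2, 4, 8, 6, 2, 6, 10, 8, 4, 8, 2, 0, 10, 9, 10, 1, 2, 8, 4, 8, 10, 8, 0, 4, 0, 8, 10, 9, 0, 4, 8, 2, 4, 8, 6, 2, 6, 10, 8, 4, 8, 2, 0, 10, 9, 10, 0, 2, 8, 4, 8, 10, 2, 8, 4, 8, 10, 2, 4, 5, 8, 4, 8, 0, 4, 5, 10, 8, 6, 2, 4, 8], 1, false), ([9, 10, 1, 2, 8, 4, 8, 10, 8, 0, 4, 0, 8, 10, 9, 0, 4, 8, 2, 4, 8, 6, 2, 6, 10, 8, 4, 8, 2, 0, 10, 9, 10, 1, 2, 8, 4, 8, 10, 8, 0, 4, 0, 8, 10, 9, 0, 4, 8, 2, 4, 8, 6, 2, 6, 10, 8, 4,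 8, 2, 0, 10, 9, 10, 0, 2, 8, 4, 8, 10, 2, 8, 4, 8, 10, 2, 4, 5, 8, 4, 8, 0, 4, 5, 0, 8, 4, 8, 5, 4, 2, 10, 8, 4, 8, 2, 10, 8, 4, 8, 2, 0, 10], 0, false), ([9, 10, 1, 2, 8, 4, 8, 10, 8, 0, 4, 0, 8, 10, 9, 0, 4, 8, 2, 4, 8, 6, 2, 6, 10, 8, 4, 8, 2, 0, 10, 9, 10, 1, 2, 8, 4, 8, 10, 8, 0, 4, 0, 8, 10, 9, 0, 4, 8, 2, 4, 8, 6, 2, 6, 10, 8, 4, 8, 2, 0, 10, 9, 10], 6, true), ([9, 10, 1, 2, 8, 4, 8, 10, 8, 0, 4, 0, 8, 10, 9, 0, 4, 8, 2, 4, 8, 6, 2, 6, 10, 8, 4, 8, 2, 0, 1, 2, 8, 4, 8, 10, 2, 8, 5, 1, 8, 9, 6, 8, 6, 10, 8, 0, 4, 0, 8, 4, 10, 8, 4, 8, 2, 0, 1, 2, 8, 4, 8, 10, 8, 0, 4, 0, 8, 10, 9, 0, 4, 8, 2, 4, 8, 6, 2, 6, 10, 8, 4, 8, 2, 0, 2, 8, 1, 2, 0, 8, 10, 6, 8, 6, 2, 6,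 8, 2, 0, 4, 3, 0, 10, 8, 0, 4, 0, 8, 10, 8, 4, 8, 2, 0], 7, false), ([9, 10, 1, 2, 8, 4, 8, 10, 8, 0, 4, 0, 8, 10, 9, 0, 4, 8, 2, 4, 8, 6, 2, 6, 10, 8, 4, 8, 2, 0, 1, 2, 8, 4, 8, 10, 2, 8, 5, 1, 8, 9, 6, 8, 6, 10, 8, 0, 4, 0, 8, 4, 10, 8, 4, 8, 2, 0, 1, 2, 8, 4, 8, 10, 8, 0, 4, 0, 8, 10, 9, 0, 4, 8, 2, 4, 8, 6, 2, 6, 10, 8, 4, 8, 2, 0], 9, true), ([9, 10], 8, false), ([9, 10, 8, 4, 2, 6, 8, 10, 4, 8, 2, 4, 8, 10, 8, 4, 0, 4, 6, 8, 4, 9, 8, 10, 8, 4, 8, 2, 1], 10, true), ([9, 10, 8, 4, 2, 6, 8, 10, 4, 8, 2, 4, 8, 10, 8, 4, 0, 4, 6, 8, 4, 9, 8, 2, 8, 5, 1, 8, 9, 6, 8, 6, 10, 8, 0, 4, 0, 8, 4, 8, 0, 4, 0, 8, 10, 0, 3, 4, 0, 2, 8, 6, 2, 6, 8, 6, 10, 8, 0, 2, 1, 8, 2, 10],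 5, true), ([], 2, false), ([0, 2, 8, 4, 8, 10], 12, true)]]

/-- The records. -/
def cubeRecs : List Rec :=
  cubeRecs0

/-- The position of the cube. -/
def cubeAt : Nat :=
  13

end Cfsg.Lib.Extra.SuzUnique.RelData
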