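import Cfsg.Agent.Lib.Extra.SuzUnique.Rewrite

/-! Generated certificate. -/

set_option autoImplicit false
set_option maxRecDepth 20000

namespace Cfsg.Lib.Extra.SuzUnique.RelData

open Cfsg.Lib.Extra.SuzUnique

/-- Records. -/
def localRecs0 : List Rec :=
  [.norm [] none [],
    .norm [4, 5, 8, 2, 4, 8, 0, 10, 1, 8, 2, 3, 4, 9, 8, 0, 5, 8, 2, 4, 8, 0, 10, 1, 8, 2, 3, 4, 9, 8, 0, 4] none [(7, 14, [6, 0, 2, 1, 2, 0, 6])],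
    .norm [1, 0, 8, 4, 2, 8, 4, 2, 9, 5, 8, 10, 0, 2, 0, 2, 3, 8, 4, 9, 6, 10, 0, 7, 8, 6, 0, 1, 2, 4, 8, 6, 2, 1, 0, 8, 4, 2, 8, 4, 2, 9, 5, 8, 10, 0, 2, 0, 2, 3, 8, 4, 9, 6, 10, 0, 7, 8, 6, 0, 1, 2, 4, 8, 6, 2] none [(21, 22, [4, 6, 1, 2, 1, 6, 2]), (11, 25, [1, 5, 2, 5, 0])],
    .norm [0, 2, 9, 1, 2, 0, 4, 10, 9, 10, 8, 3, 8, 10] (some (0, 0, false, [1, 2, 4, 2, 6, 9, 0])) [(13, 14, [3, 4, 2, 8, 2, 8, 6]), (9, 11, [2, 5, 6, 0, 7, 8, 2, 8]), (7, 10, [0, 9, 2, 0, 1, 6, 2, 9])],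
    .norm [1, 0, 9, 6, 8, 2, 8, 10, 9, 10, 8, 4, 8, 2, 8, 0, 4, 0, 8, 10] (some (0, 0, false, [1, 2, 4, 2, 6, 9, 0])) [(19, 14, [3, 4, 2, 8, 2, 8, 6]), (9, 17, [0, 4, 2, 9, 0, 9, 6]), (7, 9, [1, 2, 0, 7, 2, 1])],
    .norm [8, 2, 6, 1, 9, 2, 1, 8, 5, 10, 8, 4, 8, 10, 8, 0, 4, 0, 8, 4, 10, 0, 4, 0, 8, 4, 8, 10, 8, 0, 4, 0, 8, 10] (some (3, 0, false, [8, 5, 4, 1, 0, 8, 4, 0, 6])) [(33, 19, [0, 1, 2, 4, 2, 4, 0]), (27, 22, [0, 1, 8, 9, 2, 8, 6, 9]), (20, 24, [1, 4, 2, 1, 0, 2, 5, 0]), (13, 24, [0, 1, 7, 2, 6, 1, 0]), (9, 20, [1, 2, 1, 0, 2, 7, 0])],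
    .norm [7, 0, 8, 9, 4, 2, 8, 4, 2, 8, 10, 8, 4, 8, 0, 4, 0, 10, 8, 0, 4, 0, 8, 10, 8, 4, 8, 0, 4, 0, 8, 4, 8, 10, 8, 0, 4, 0, 8, 10] (some (1, 0, false, [4, 2, 1, 8, 2, 9, 6, 2, 4, 8])) [(39, 20, [5, 2, 5, 0, 1, 5, 2]), (33, 22, [5, 2, 1, 7]), (23, 23, [0, 4, 8, 0, 1, 8, 6, 9]), (17, 23, [2, 1, 2, 0, 7, 2]), (10, 22, [0, 1, 4, 2, 1, 7, 2, 0, 4])],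
    .norm [4, 9, 0, 6, 2, 4, 0, 10, 8, 0, 4, 0, 8, 4, 10, 8, 4, 8, 2, 4, 8, 0, 4, 0, 8, 10, 8, 4, 8, 10, 5, 8, 1, 2, 9, 1, 6, 2, 8] (some (4, 1, true, [9, 5, 0, 6, 1, 2, 4])) [(29, 22, [0, 2, 0, 5, 2, 4, 5, 6]), (25, 20, [2, 0, 4, 6, 0, 1, 4, 6]), (14, 22, [0, 1, 6, 2, 6]), (7, 16, [0, 2, 1, 4, 6, 2, 6])],
    .norm [7, 6, 0, 8, 2, 4, 8, 2, 6, 10, 8, 4, 8, 2, 0, 2, 9, 1, 2, 0, 4, 10, 9, 8, 0, 4, 0, 8, 10, 0, 4, 0, 8, 4, 8, 10, 8, 2, 4, 8, 2, 4, 9, 8, 0, 7] (some (4, 1, true, [8, 2, 7, 2, 4, 8, 2, 6, 1])) [(35, 25, [1, 2, 0, 1, 4, 6]), (28, 21, [0, 9, 1, 9, 2, 1, 6]), (21, 17, [1, 6, 2, 1, 7, 2, 1, 0]), (9, 24, [1, 6, 8, 1, 0, 5, 8, 6])],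
    .norm [8, 4, 8, 10, 0, 2, 9, 1, 2, 0, 4, 10, 9, 10, 8, 3, 4, 8] (some (0, 0, false, [1, 8, 5, 1, 2, 6, 4, 8, 1])) [(13, 22, [0, 3, 6, 0, 1, 2, 6]), (11, 9, [2, 1, 2, 0, 1, 5, 2]), (3, 15, [1, 2, 0, 2, 3, 4, 0])],
    .prod [10, 2, 8, 4, 8, 10, 4, 8, 0, 4, 0, 8, 10, 8, 4, 8, 10, 0, 2, 9, 1, 2, 0, 4, 10, 9, 10, 8, 3, 4, 8, 10, 8, 0, 4, 0, 8, 4, 10, 8, 4, 8, 2, 10] [([10, 2, 8, 4, 8, 10, 4, 8, 0, 4, 0, 8, 10], 9, true)],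
    .norm [2, 8, 4, 8, 10, 1, 0, 9, 6, 8, 2, 8, 10, 9, 10, 8, 0, 4, 0, 8] (some (0, 0, false, [2, 6, 8, 4, 8, 7, 6, 3])) [(14, 22, [0, 8, 2, 7, 8, 4]), (12, 8, [5, 2, 0, 1, 2, 0, 7]), (4, 15, [0, 2, 0, 9, 8, 9, 8])],
    .prod [10, 2, 8, 4, 8, 10, 1, 0, 9, 6, 8, 2, 8, 10, 9, 10, 8, 0, 4, 0, 8, 10] [([10], 11, true)],
    .norm [10, 8, 0, 4, 0, 8, 10, 2, 4, 8, 6, 5, 0, 6, 4, 8, 10, 8, 0, 4, 0, 8, 4, 10, 8, 3, 4, 8] (some (4, 5, false, [])) [(23, 6, [1, 6, 8, 1, 0, 5, 8, 4]), (16, 19, [0, 1, 6, 2, 4, 0, 5, 6]), (6, 21, [1, 0, 4, 8, 2, 8, 6]), (0, 21, [])],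
    .prod [10, 8, 0, 4, 0, 8, 10, 2, 4, 8, 6, 5, 0, 6, 4, 8, 10, 8, 0, 4, 0, 8, 4, 10, 8, 3, 4, 8] [([], 13, true)],
    .norm [8, 4, 8, 10, 0, 8, 4, 2, 6, 3, 8, 2, 1, 10, 8, 4, 8, 9, 10, 8, 2, 8, 6, 9, 0, 1, 4, 8, 0, 4, 0, 8, 10] (some (4, 5, false, [8, 4, 8, 4, 0, 2, 5, 0, 1])) [(32, 15, [2, 0, 1, 0, 3, 4, 0, 2]), (18, 26, [3, 6, 8, 1, 5, 0, 8]), (13, 15, [1, 2, 9, 8, 0, 1, 7, 8]), (3, 26, [4, 0, 2, 5, 0, 1])],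
    .prod [10, 2, 8, 4, 8, 10, 4, 8, 0, 4, 0, 8, 10, 8, 4, 8, 10, 0, 8, 4, 2, 6, 3, 8, 2, 1, 10, 8, 4, 8, 10, 8, 0, 4, 0, 8, 10] [([10, 2, 8, 4, 8, 10, 4, 8, 0, 4, 0, 8, 10], 15, true), ([], 12, true)],
    .norm [8, 4, 3, 8, 10, 4, 8, 0, 4, 0, 8, 10, 8, 4, 6, 0, 5, 6, 8, 4, 2, 8, 4, 8, 10, 1, 2, 8, 3, 6, 2, 4, 8, 2, 9, 1, 2, 0, 4, 10, 9, 8, 4, 2, 0, 9, 8, 4, 8, 10, 9] (some (1, 0, false, [0, 1, 8, 4, 0, 4, 8, 2, 6])) [(49, 20, [6, 2, 1, 2, 5, 6, 0]), (39, 26, [1, 9, 5, 2, 9, 1, 4]), (24, 31, [2, 1, 2, 0, 5, 6, 2, 4]), (11, 30, [6, 0, 2, 4, 6, 0, 2]), (4, 23, [1, 5, 0, 6, 2, 1, 2, 7])],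
    .prod [10, 2, 8, 4, 8, 10, 4, 8, 0, 4, 0, 8, 10, 8, 4, 3, 8, 10, 8, 4, 2, 0, 9, 8, 4, 8, 10, 9] [([], 10, false), ([], 16, true), ([], 14, true), ([], 17, true)],
    .norm [0, 1, 2, 1, 2, 6, 5, 9, 10, 8, 0, 4, 0, 8, 4, 8, 0, 4, 0, 8, 10, 0, 4, 2, 6, 0, 9, 4, 7, 6, 0, 8, 2, 4, 8, 2, 6, 10, 8, 4, 8, 2, 0, 2, 9, 1, 2, 0, 4, 10, 9, 4, 8, 0, 4, 0, 8, 2, 8, 4, 8, 10, 4, 8, 0, 4, 0, 8, 10, 8, 4, 3, 8, 10, 8, 4, 2, 0, 9, 8, 4, 8, 10, 9] none [(49, 11, [1, 2, 1, 0, 7]), (37, 22, [6, 0, 2, 6, 1, 2, 0]), (20, 27, [7, 2, 4, 2]), (8, 23, [1, 6, 0, 4, 8, 2, 8, 5])],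
    .prod [0, 1, 2, 1, 2, 6, 5, 9, 10, 8, 0, 4, 0, 8, 4, 8, 0, 4, 0, 8, 10, 0, 4, 2, 6, 0, 9, 4, 7, 6, 0, 8, 2, 4, 8, 2, 6, 10, 8, 4, 8, 2, 0, 2, 9, 1, 2, 0, 4, 10, 9, 4, 8, 0, 4, 0, 8, 10] [([], 19, true), ([], 18, false)],
    .norm [2, 4, 8, 6, 1, 8, 2, 6, 8, 9, 0, 10, 8, 4, 8, 0, 4, 0, 10, 8, 0, 4, 0, 8, 4, 2, 8, 4, 8, 10, 8, 0, 4, 0, 8, 10, 9, 5, 6, 2, 1, 2, 1, 0] (some (4, 1, true, [0, 5, 4, 8, 2, 6, 8, 0, 8, 3, 0])) [(35, 23, [2, 1, 5, 2, 8, 2, 8]), (29, 21, [4, 8, 2, 8, 4, 0, 6]), (18, 21, [4, 5, 0, 6, 1, 2, 1, 2]), (11, 19, [5, 6, 8, 2, 8, 5, 0])],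
    .norm [8, 6, 2, 6, 8, 0, 4, 9, 1, 10, 8, 4, 8, 2, 4, 9, 10, 8, 2, 8, 6, 9, 0, 1, 0, 4, 0, 8, 4, 8, 10, 0, 9, 8, 6, 2, 8, 1, 6, 8, 4, 2, 10, 8, 0, 4, 0, 8, 4] (some (4, 1, true, [8, 5, 0, 8, 4, 2, 4, 1, 8])) [(42, 21, [6, 0, 2, 1, 2, 1, 7]), (30, 27, [6, 0, 7, 2, 0]), (16, 22, [4, 5, 2, 0, 6, 0, 7]), (9, 18, [2, 0, 2, 1, 6, 2, 7])],
    .norm [6, 8, 4, 5, 0, 1, 8, 4, 6, 10, 4, 6, 8, 2, 4, 8, 9, 0, 2, 10, 1, 8, 4, 6, 2, 1, 5, 8, 1, 6, 8, 4, 5, 0, 1, 8, 4, 6, 10, 4, 6, 8, 2, 4, 8, 9, 0, 2, 10, 1, 8, 4, 6, 2, 1, 5, 8, 1] none [(19, 18, [2, 8, 0, 1, 8, 9, 4]), (9, 25, [0, 2, 1, 0, 2, 3])],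
    .norm [2, 6, 9, 7, 6, 10, 9, 10, 8, 4, 2, 8, 0, 8, 4, 8, 10] (some (0, 0, false, [1, 2, 4, 2, 6, 9, 0])) [(16, 14, [3, 4, 2, 8, 2, 8, 6]), (7, 16, [2, 0, 2, 1, 6, 1, 0, 6]), (5, 10, [3, 4, 6, 2, 1, 0, 4])],
    .prod [0, 8, 4, 8, 10, 2, 6, 9, 7, 6, 10, 9, 10, 8, 4, 2, 8] [([0, 8, 4, 8, 10], 24, true)],
    .norm [0, 4, 8, 2, 4, 2, 8, 0, 5, 10, 8, 0, 4, 0, 8, 10, 8, 4, 8, 0, 4, 8, 2, 4, 8, 10, 4, 8, 0, 4, 0, 8, 10] (some (4, 5, false, [2, 4, 2, 6, 8, 4, 3, 8, 6])) [(32, 15, [2, 0, 1, 3, 4, 2, 6]), (25, 18, [0, 2, 1, 0, 2, 6, 0, 5]), (15, 21, [5, 6, 1, 0, 5, 6]), (9, 20, [2, 4, 6, 2, 6])],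
    .prod [8, 2, 4, 8, 10, 4, 8, 0, 4, 0, 8, 10, 0, 4, 8, 2, 4, 2, 8, 0, 5, 10, 8, 0, 4, 0, 8, 10, 8, 4, 8, 0, 4] [([8, 2, 4, 8, 10, 4, 8, 0, 4, 0, 8, 10], 26, true)],
    .norm [0, 8, 1, 2, 4, 8, 0, 4, 1, 0, 10, 8, 0, 4, 0, 8, 4, 10, 8, 4, 8, 0, 4, 8, 2, 4, 8, 10, 8, 0, 4, 0, 8, 10] (some (4, 1, true, [6, 8, 5, 4, 8, 2, 1])) [(33, 13, [0, 5, 6, 0, 4, 6]), (27, 20, [4, 2, 6, 1, 0, 2, 7]), (17, 20, [0, 1, 4, 2]), (10, 15, [1, 0, 2, 1, 5, 2, 6])],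
    .prod [4, 8, 2, 4, 8, 10, 8, 0, 4, 0, 8, 10, 0, 8, 1, 2, 4, 8, 0, 4, 1, 0, 10, 8, 0, 4, 0, 8, 4, 10, 8, 4, 8, 0] [([4, 8, 2, 4, 8, 10, 8, 0, 4, 0, 8, 10], 28, true)],
    .norm [4, 0, 8, 9, 4, 2, 8, 4, 2, 8, 3, 10, 8, 4, 8, 0, 4, 0, 10, 8, 0, 4, 0, 8, 9, 10, 6, 7, 9, 6, 2, 4, 8, 0, 4, 0, 8, 10, 0, 1, 4, 0, 8, 4, 2, 1, 8, 0] (some (4, 5, false, [0, 8, 4, 9, 2, 8, 5, 4, 8, 2])) [(37, 22, [2, 3, 6, 0, 2, 1, 4, 2]), (25, 24, [4, 2, 1, 5, 2, 1, 0, 6]), (18, 18, [4, 0, 6, 1, 2, 6, 0]), (11, 22, [1, 2, 9, 0, 2, 1, 2, 9])],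
    .prod [4, 8, 2, 4, 8, 10, 8, 0, 4, 0, 8, 10, 4, 0, 8, 9, 4, 2, 8, 4, 2, 8, 3, 10, 8, 4, 8, 0, 4, 0, 10, 8, 0, 4, 0, 8, 10, 8, 4, 2, 8] [([4, 8, 2, 4, 8, 10, 8, 0, 4, 0, 8, 10], 30, true), ([], 29, true), ([], 25, true)],
    .norm [6, 2, 8, 0, 9, 8, 2, 0, 8, 4, 10, 8, 3, 4, 8, 10, 8, 0, 4, 0, 8, 4, 8, 0, 4, 0, 8, 10, 0, 4, 8, 2, 4, 2, 8, 0, 5, 10, 8, 0, 4, 0, 8] (some (4, 1, true, [1, 6, 2, 8, 7, 4, 0, 4, 8, 2])) [(37, 21, [0, 2, 0, 5, 2, 1, 7, 0]), (27, 26, [0, 2, 1, 0, 3, 4, 7]), (15, 22, [2, 1, 0, 2, 6, 1, 6]), (10, 16, [4, 6, 0, 6])],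
    .prod [4, 0, 8, 4, 8, 10, 6, 2, 8, 0, 9, 8, 2, 0, 8, 4, 10, 8, 3, 4, 8, 10, 8, 0, 4, 0, 8, 10, 8, 4, 2, 8] [([4, 0, 8, 4, 8, 10], 32, true), ([], 27, false)],
    .norm [5, 8, 2, 4, 8, 0, 10, 1, 8, 2, 3, 4, 9, 8, 0, 4, 5, 8, 2, 4, 8, 0, 10, 1, 8, 2, 3, 4, 9, 8, 0, 4, 5, 8, 2, 4, 8, 0, 10, 1, 8, 2, 3, 4, 9, 8, 0, 4, 5, 8, 2, 4, 8, 0, 10, 1, 8, 2, 3, 4, 9, 8, 0, 4, 5, 8, 2, 4, 8, 0, 10, 1, 8, 2, 3, 4, 9, 4, 8, 10, 6, 2, 8, 0, 9, 8, 2, 0, 8, 4, 10, 8, 3, 4, 8, 0, 4, 0, 8, 4, 8, 10, 3, 8, 2, 4, 8, 2, 4, 9, 8, 0, 4, 0, 8, 1, 2, 4, 8, 0, 4, 1, 0, 10, 8, 0, 4, 0, 8, 4, 10, 8, 4, 8, 0] none [(70, 8, [0, 5, 6, 2, 1, 6, 1]), (54, 32, [0, 2, 1, 2, 1, 4, 6, 0]), (38, 33, [1, 3, 8, 3, 9, 2, 8, 0]), (22,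 44, [0, 6, 2, 6, 7]), (6, 26, [2, 0, 8, 9, 2, 9, 8, 0])],
    .prod [5, 8, 2, 4, 8, 0, 10, 1, 8, 2, 3, 4, 9, 8, 0, 4, 5, 8, 2, 4, 8, 0, 10, 1, 8, 2, 3, 4, 9, 8, 0, 4, 5, 8, 2, 4, 8, 0, 10, 1, 8, 2, 3, 4, 9, 8, 0, 4, 5, 8, 2, 4, 8, 0, 10, 1, 8, 2, 3, 4, 9, 8, 0, 4, 5, 8, 2, 4, 8, 0, 10, 1, 8, 2, 3, 4, 9, 8, 0, 4] [([], 34, true), ([], 29, false), ([], 31, true), ([], 33, false)],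
    .norm [4, 5, 4, 5] none [],
    .norm [4, 1, 0, 8, 4, 2, 8, 4, 2, 9, 5, 8, 10, 0, 2, 0, 2, 3, 8, 4, 9, 6, 10, 0, 7, 8, 6, 0, 1, 2, 4, 8, 6, 2, 4, 1, 0, 8, 4, 2, 8, 4, 2, 9, 5, 8, 10, 0, 2, 0, 2, 3, 8, 4, 9, 6, 10, 0, 7, 8, 6, 0, 1, 2, 4, 8, 6, 2] none [(22, 23, [1, 5, 6, 2, 1, 6, 2, 5]), (12, 26, [1, 9, 4, 2, 6, 9, 0])],
    .norm [4, 6, 4, 6] none [],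
    .norm [4, 7, 4, 7] none [],
    .norm [4, 6, 8, 4, 5, 0, 1, 8, 4, 6, 10, 4, 6, 8, 2, 4, 8, 9, 0, 2, 10, 1, 8, 4, 6, 2, 1, 5, 8, 1, 4, 6, 8, 4, 5, 0, 1, 8, 4, 6, 10, 4, 6, 8, 2, 4, 8, 9, 0, 2, 10, 1, 8, 4, 6, 2, 1, 5, 8, 1] none [(20, 19, [0, 3, 7, 8, 2, 8, 4, 6]), (10, 26, [0, 6, 2, 1, 4, 0, 7, 2])],
    .prod [4, 0, 8, 4, 8, 10, 2, 6, 9, 7, 6, 10, 9, 10, 8, 4, 2, 8, 4] [([4, 0, 8, 4, 8, 10], 24, true)],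
    .norm [4, 5, 8, 2, 4, 8, 0, 10, 1, 8, 2, 3, 4, 9, 8, 0, 4, 5, 4, 5, 8, 2, 4, 8, 0, 10, 1, 8, 2, 3, 4, 9, 8, 0, 4, 5, 4, 5, 8, 2, 4, 8, 0, 10, 1, 8, 2, 3, 4, 9, 8, 0, 4, 5, 4, 8, 2, 4, 8, 10, 9, 10, 6, 7, 9, 6, 2, 10, 8, 4, 8, 0, 4] none [(43, 15, [2, 0, 1, 2, 0, 1]), (25, 24, [6, 9, 0, 3, 4, 9]), (7, 28, [2, 0, 8, 9, 2, 9, 8, 0])],
    .prod [4, 5, 8, 2, 4, 8, 0, 10, 1, 8, 2, 3, 4, 9, 8, 0, 4, 5, 4, 5, 8, 2, 4, 8, 0, 10, 1, 8, 2, 3, 4, 9, 8, 0, 4, 5, 4, 5, 8, 2, 4, 8, 0, 10, 1, 8, 2, 3, 4, 9, 8, 0, 4, 5] [([], 42, true), ([], 41, true)],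
    .norm [4, 5, 8, 2, 4, 8, 0, 10, 1, 8, 2, 3, 4, 9, 8, 0, 4, 6, 4, 5, 8, 2, 4, 8, 0, 10, 1, 8, 2, 3, 4, 9, 8, 0, 4, 6] none [(7, 17, [0, 1, 2, 1, 2, 6, 0])],
    .prod [4, 0, 8, 4, 8, 10, 2, 6, 9, 7, 6, 10, 9, 10, 8, 4, 2, 8, 4] [([4, 0, 8, 4, 8, 10], 24, true)],
    .norm [4, 5, 8, 2, 4, 8, 0, 10, 1, 8, 2, 3, 4, 9, 8, 0, 4, 7, 4, 5, 8, 2, 4, 8, 0, 10, 1, 8, 2, 3, 4, 9, 8, 0, 4, 7, 4, 5, 8, 2, 4, 8, 0, 10, 1, 8, 2, 3, 4, 9, 8, 0, 4, 7, 4, 8, 2, 4, 8, 10, 9, 10, 6, 7, 9, 6, 2, 10, 8, 4, 8, 0, 4] none [(43, 15, [2, 1, 2, 1, 6, 1, 0]), (25, 25, [6, 9, 0, 9, 4]), (7, 27, [2, 0, 8, 9, 2, 9, 8, 0])],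
    .prod [4, 5, 8, 2, 4, 8, 0, 10, 1, 8, 2, 3, 4, 9, 8, 0, 4, 7, 4, 5, 8, 2, 4, 8, 0, 10, 1, 8, 2, 3, 4, 9, 8, 0, 4, 7, 4, 5, 8, 2, 4, 8, 0, 10, 1, 8, 2, 3, 4, 9, 8, 0, 4, 7] [([], 46, true), ([], 45, true)],
    .norm [4, 9, 3, 1, 2, 1, 0, 10, 9, 10, 8, 4, 8, 0, 8, 2, 4, 8, 10] (some (0, 0, false, [1, 2, 4, 2, 6, 9, 0])) [(18, 14, [3, 4, 2, 8, 2, 8, 6]), (9, 16, [1, 0, 4, 2, 6, 1, 6, 7]), (7, 10, [1, 5, 2, 6, 7, 0, 6, 1])],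
    .norm [4, 8, 6, 8, 1, 2, 6, 8, 2, 0, 10, 8, 4, 2, 8, 4, 0, 1, 0, 9, 6, 8, 2, 8, 10, 9, 4, 8, 0, 4, 0, 8, 10, 0, 4, 2, 6, 0, 9, 4, 7, 6, 0, 8, 2, 4, 8, 2, 6, 10, 8, 4, 8, 2] (some (4, 1, true, [4, 3, 8, 0, 4, 0, 8, 4, 3, 0])) [(49, 20, [3, 8, 1, 0, 9, 2, 8, 0]), (32, 33, [0, 5, 0, 1, 0, 2]), (24, 17, [5, 2, 1, 7, 0, 4, 2, 1]), (10, 26, [0, 2, 6, 0, 2, 4])]]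

/-- Records. -/
def localRecs1 : List Rec :=
  [.norm [6, 8, 1, 8, 9, 4, 2, 4, 8, 1, 10, 8, 4, 2, 8, 4, 0, 10, 8, 0, 4, 0, 8, 4, 8, 0, 4, 0, 8, 10, 7, 6, 0, 8, 2, 4, 8, 2, 6, 10, 8, 4, 8, 2] (some (4, 5, false, [1, 8, 4, 2, 6, 2, 8, 6, 0, 2])) [(39, 20, [0, 2, 9, 0, 4, 5, 2, 9]), (29, 22, [1, 8, 0, 4, 8, 6, 8]), (17, 22, [0, 1, 6, 2, 4, 0, 7]), (10, 22, [1, 0, 5, 2, 0, 2, 7, 0])],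
    .norm [6, 2, 8, 7, 6, 4, 0, 8, 4, 8, 1, 10, 8, 4, 8, 0, 8, 2, 4, 8, 10, 1, 8, 4, 2, 4, 9, 8, 1, 8, 6, 4, 8, 6, 8, 1, 2, 6, 8, 2, 0, 10, 8, 4, 2, 8, 4, 0] (some (0, 0, false, [0, 9, 4, 8, 3, 9, 2, 4, 8, 0])) [(41, 21, [0, 2, 6, 1, 2, 5, 6]), (20, 28, [4, 9, 1, 2, 9, 6, 1, 2]), (11, 17, [2, 9, 0, 9, 4, 2])],
    .norm [8, 1, 8, 6, 8, 4, 2, 7, 4, 10, 8, 4, 8, 2, 9, 3, 1, 2, 1, 0, 10, 9, 4, 8, 0, 4, 0, 8, 10, 0, 4, 0, 8, 4, 8, 10, 1, 8, 4, 8, 0, 4, 6, 7, 8, 2, 6] (some (4, 1, true, [8, 2, 7, 2, 4, 8, 2, 6, 1])) [(35, 26, [3, 4, 5, 2, 0, 1]), (28, 21, [0, 2, 6, 0, 4, 2, 1, 2]), (20, 19, [2, 1, 2, 1, 6, 2, 0]), (9, 22, [6, 7, 9, 4, 0, 9])],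
    .norm [5, 1, 0, 8, 4, 2, 8, 4, 2, 9, 5, 8, 10, 0, 2, 0, 2, 3, 8, 4, 9, 6, 10, 0, 7, 8, 6, 0, 1, 2, 4, 8, 6, 2, 5, 1, 0, 8, 4, 2, 8, 4, 2, 9, 5, 8, 10, 0, 2, 0, 2, 3, 8, 4, 9, 6, 10, 0, 7, 8, 6, 0, 1, 2, 4, 8, 6, 2, 5, 1, 0, 8, 4, 2, 8, 4, 2, 9, 5, 8, 10, 0, 2, 0, 2, 3, 8, 4, 9, 6, 10, 0, 7, 8, 6, 0, 1, 2, 4, 8, 6, 2, 5, 1, 0, 8, 4, 2, 8, 4, 2, 9, 5, 8, 10, 0, 2, 0, 2, 3, 8, 4, 9, 6, 10, 0, 7, 8, 6, 0, 1, 2, 4, 8, 6, 2, 5, 1, 0, 8, 4, 2, 8, 4, 2, 9, 5, 8, 10, 0, 2, 0, 2, 3, 8, 4, 9, 6, 10, 0, 7, 8, 6, 0, 1, 2, 4, 8, 6, 2, 5, 1, 0, 8, 4, 2, 8, 4, 2, 9, 5, 8, 10, 0, 2, 0, 2, 3, 8, 4, 9, 6, 10, 0, 7, 8, 6, 0, 1, 2, 4, 8, 6, 2, 5, 1, 0, 8, 4, 2, 8, 4, 2, 9, 5, 8, 10, 0, 2, 0, 2, 3, 8, 4, 9, 6,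 10, 0, 7, 8, 6, 0, 1, 2, 4, 8, 6, 2, 5, 1, 0, 8, 4, 2, 8, 4, 2, 9, 5, 8, 10, 0, 2, 0, 2, 3, 8, 4, 9, 6, 10, 0, 7, 8, 6, 0, 1, 2, 4, 8, 6, 2] none [(22, 23, [1, 9, 2, 6, 1, 2, 9]), (38, 23, [1, 9, 2, 6, 1, 2, 9]), (54, 23, [1, 9, 2, 6, 1, 2, 9]), (12, 57, [1, 3, 4, 2, 6, 0, 7]), (52, 23, [1, 9, 2, 6, 1, 2, 9]), (68, 23, [1, 9, 2, 6, 1, 2, 9]), (84, 23, [1, 9, 2, 6, 1, 2, 9]), (42, 57, [1, 3, 4, 2, 6, 0, 7])],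
    .norm [5, 6, 5, 6] none [],
    .norm [5, 7, 5, 7] none [],
    .norm [5, 6, 8, 4, 5, 0, 1, 8, 4, 6, 10, 4, 6, 8, 2, 4, 8, 9, 0, 2, 10, 1, 8, 4, 6, 2, 1, 5, 8, 1, 5, 6, 8, 4, 5, 0, 1, 8, 4, 6, 10, 4, 6, 8, 2, 4, 8, 9, 0, 2, 10, 1, 8, 4, 6, 2, 1, 5, 8, 1] none [(20, 19, [4, 0, 8, 2, 8, 6]), (10, 24, [0, 2, 1, 0, 2])],
    .norm [1, 0, 8, 4, 2, 8, 4, 2, 9, 5, 8, 10, 0, 2, 0, 2, 3, 8, 4, 9, 6, 10, 0, 7, 8, 6, 0, 1, 2, 4, 8, 6, 2, 6, 1, 0, 8, 4, 2, 8, 4, 2, 9, 5, 8, 10, 0, 2, 0, 2, 3, 8, 4, 9, 6, 10, 0, 7, 8, 6, 0, 1, 2, 4, 8, 6, 2, 6, 1, 0, 8, 4, 2, 8, 4, 2, 9, 5, 8, 10, 0, 2, 0, 2, 3, 8, 4, 9, 6, 10, 0, 7, 8, 6, 0, 1, 2, 4, 8, 6, 2, 6] none [(21, 23, [0, 2, 0, 2, 1, 5, 0, 5]), (38, 23, [0,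 2, 0, 2, 1, 5, 0, 5]), (11, 43, [1, 3, 5, 2, 7])],
    .norm [1, 0, 8, 4, 2, 8, 4, 2, 9, 5, 8, 10, 0, 2, 0, 2, 3, 8, 4, 9, 6, 10, 0, 7, 8, 6, 0, 1, 2, 4, 8, 6, 2, 7, 1, 0, 8, 4, 2, 8, 4, 2, 9, 5, 8, 10, 0, 2, 0, 2, 3, 8, 4, 9, 6, 10, 0, 7, 8, 6, 0, 1, 2, 4, 8, 6, 2, 7] none [(21, 23, [1, 6, 7, 2, 1, 6, 2]), (11, 25, [1, 3, 5, 2, 5, 0])],
    .prod [0, 4, 8, 2, 4, 8, 10, 4, 9, 3, 1, 2, 1, 0, 10, 9, 10, 8, 4, 8, 0, 4, 0] [([0, 4, 8, 2, 4, 8, 10], 48, true)],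
    .prod [8, 4, 3, 8, 10, 0, 2, 9, 1, 2, 0, 4, 10, 9, 10, 8, 4, 8] [([8, 4, 3, 8, 10], 3, true)],
    .prod [10, 4, 8, 0, 4, 0, 8, 10, 1, 0, 9, 6, 8, 2, 8, 10, 9, 10, 8, 4, 8, 2, 4, 10] [([10, 4, 8, 0, 4, 0, 8, 10], 4, true)],
    .prod [0, 4, 0, 8, 4, 8, 10, 8, 0, 4, 0, 8, 10, 8, 2, 6, 1, 9, 2, 1, 8, 5, 10, 8, 4, 8, 10, 8, 0, 4, 0, 8, 4, 10] [([0, 4, 0, 8, 4, 8, 10, 8, 0, 4, 0, 8, 10], 5, true)],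
    .prod [0, 4, 0, 8, 4, 8, 10, 8, 0, 4, 0, 8, 10, 7, 0, 8, 9, 4, 2, 8, 4, 2, 8, 10, 8, 4, 8, 0, 4, 0, 10, 8, 0, 4, 0, 8, 10, 8, 4, 8] [([0, 4, 0, 8, 4, 8, 10, 8, 0, 4, 0, 8, 10], 6, true)],
    .prod [0, 4, 0, 8, 4, 8, 10, 8, 0, 4, 0, 8, 10, 4, 9, 0, 6, 2, 4, 0, 10, 8, 0, 4, 0, 8, 4, 10, 8, 4, 8, 2, 10] [([0, 4, 0, 8, 4, 8, 10, 8, 0, 4, 0, 8, 10], 7, true), ([], 62, true)],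
    .prod [0, 4, 0, 8, 4, 8, 10, 8, 0, 4, 0, 8, 10, 7, 6, 0, 8, 2, 4, 8, 2, 6, 10, 8, 4, 8, 2, 10, 8, 3, 4, 8] [([0, 4, 0, 8, 4, 8, 10, 8, 0, 4, 0, 8, 10], 8, true), ([], 63, true), ([], 60, false)],
    .prod [8, 4, 8, 10, 4, 8, 0, 4, 0, 8, 10, 0, 1, 2, 1, 2, 6, 5, 9, 10, 8, 0, 4, 0, 8, 10, 8, 4, 8, 2, 10] [([8, 4, 8, 10, 4, 8, 0, 4, 0, 8, 10], 20, true), ([], 60, false), ([], 65, false), ([], 64, true)],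
    .norm [9, 10, 8, 2, 8, 6, 9, 0, 1, 10, 8, 0, 4, 0, 8, 2, 8, 4, 8, 10] (some (0, 0, false, [1, 2, 4, 2, 6, 9, 0])) [(19, 14, [3, 4, 2, 8, 2, 8, 6]), (9, 17, [0, 4, 2, 9, 0, 9, 6]), (1, 15, [2, 5, 0, 1, 0, 2, 1])],
    .prod [9, 10, 4, 2, 8, 4, 8, 10, 9, 10, 8, 2, 8, 6, 9, 0, 1, 10, 8, 0, 4, 0, 8, 4, 10, 9] [([9, 10, 4, 2, 8, 4, 8, 10], 67, true)],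
    .norm [6, 9, 8, 5, 4, 8, 2, 0, 1, 10, 8, 4, 8, 2, 10, 8, 3, 4, 2, 8, 6, 9, 0, 1, 10, 8, 0, 4, 0, 8, 4, 10, 9] (some (4, 5, false, [8, 9, 2, 4, 0, 1, 6, 8, 2, 0])) [(31, 17, [0, 1, 2, 7, 0, 2, 1, 2]), (24, 19, [5, 0, 1, 0, 6, 2, 1]), (14, 20, [0, 1, 5, 2, 1, 5, 2]), (9, 20, [1, 2, 7, 0, 2, 1, 2, 6])],
    .prod [6, 9, 8, 5, 4, 8, 2, 0, 1, 10, 8, 4, 8, 2, 10, 8, 3, 4, 8, 10, 9, 10, 8, 4, 8, 2, 4, 10, 9] [([], 69, true), ([], 68, false)],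
    .norm [8, 6, 8, 0, 8, 0, 7, 1, 10, 8, 4, 8, 10, 8, 0, 4, 0, 8, 4, 8, 0, 4, 0, 8, 10, 4, 9, 0, 6, 2, 4, 0, 10, 8, 0, 4, 0, 8, 4, 8, 0, 4, 0, 8, 10, 9, 5, 6, 2, 1, 2, 1, 0, 9, 10, 4, 2, 8, 4, 8, 10, 9, 10, 8, 4, 3, 8, 10, 2, 8, 4, 8, 10, 1, 0, 2, 8, 4, 5, 8, 9, 6] none [(44, 9, [1, 4, 8, 2, 8, 6, 2, 0]), (32, 24, [2, 8, 9, 2, 5, 8, 6]), (24, 15, [8, 4, 6, 8, 1, 8, 9, 0]), (12, 23, [4, 0, 2, 4, 0, 2, 4]), (8, 14, [0, 4, 2, 0, 2, 0, 4])],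
    .prod [8, 6, 8, 0, 8, 0, 7, 1, 10, 8, 4, 8, 10, 8, 0, 4, 0, 8, 4, 8, 0, 4, 0, 8, 10, 4, 9, 0, 6, 2, 4, 0, 10, 8, 0, 4, 0, 8, 4, 8, 0, 4, 0, 8, 10, 9, 5, 6, 2, 1, 2, 1, 0] [([], 71, true), ([], 70, true)],
    .prod [8, 4, 8, 10, 4, 8, 0, 4, 0, 8, 10, 8, 6, 8, 0, 8, 0, 7, 1, 10, 8, 4, 8, 10, 8, 0, 4, 0, 8, 4, 10, 8, 4, 8, 0, 4, 0] [([8, 4, 8, 10, 4, 8, 0, 4, 0, 8, 10], 72, true), ([], 66, true), ([], 64, false)],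
    .prod [8, 4, 8, 10, 4, 8, 0, 4, 0, 8, 10, 2, 4, 8, 6, 1, 8, 2, 6, 8, 9, 0, 10, 8, 4, 8, 0, 4, 0, 10, 8, 0, 4, 0, 8, 4, 10] [([8, 4, 8, 10, 4, 8, 0, 4, 0, 8, 10], 21, true), ([], 66, true)],
    .norm [0, 4, 1, 0, 8, 4, 2, 1, 8, 0, 10, 8, 0, 4, 0, 8, 4, 9, 3, 1, 2, 1, 0, 10, 9, 4, 8, 0, 4, 0, 8, 10, 8, 4, 8, 10, 1, 7, 0, 8, 0, 8, 6, 8] (some (4, 5, false, [8, 4, 3, 8, 0, 4, 8, 2, 4, 8, 5])) [(35, 23, [5, 2, 8, 2, 8, 5, 0]), (31, 15, [8, 0, 2, 8, 2, 0, 8, 2]), (23, 19, [3, 7, 2, 6, 8, 2, 8, 6]), (10, 29, [0, 1, 7, 2, 1, 2, 1])],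
    .prod [8, 4, 8, 10, 4, 8, 0, 4, 0, 8, 10, 0, 4, 1, 0, 8, 4, 2, 1, 8, 0, 10, 8, 0, 4, 0, 8, 10, 8, 4, 2, 8, 4, 0] [([8, 4, 8, 10, 4, 8, 0, 4, 0, 8, 10], 75, true), ([], 73, true), ([], 59, false)],
    .prod [8, 4, 8, 10, 8, 6, 2, 6, 8, 0, 4, 9, 1, 10, 8, 4, 8, 2, 4, 10, 8, 4, 8, 2, 4, 10] [([8, 4, 8, 10], 22, true), ([], 74, true), ([], 61, true)],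
    .norm [1, 2, 0, 8, 4, 0, 2, 4, 0, 8, 10, 8, 4, 8, 2, 8, 0, 4, 0, 8, 10, 0, 8, 1, 2, 4, 8, 0, 1, 4, 0, 2, 4, 8, 6, 1, 8, 2, 6, 8, 9, 0, 10, 8, 4, 8, 0, 4, 0] (some (0, 0, false, [1, 2, 6, 2, 8, 6, 8, 1, 8, 2])) [(42, 25, [0, 2, 0, 2, 4, 6, 0, 5]), (20, 30, [2, 0, 4, 9, 2, 6, 9, 0]), (10, 18, [0, 9, 6, 0, 8, 9, 2, 8])],
    .prod [10, 4, 8, 0, 4, 0, 8, 10, 1, 2, 0, 8, 4, 0, 2, 4, 0, 8, 10, 8, 4, 8, 2, 10, 8, 4, 2, 8, 4, 0] [([10, 4, 8, 0, 4, 0, 8, 10], 78, true), ([], 74, false), ([], 76, true)],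
    .norm [6, 0, 6, 5, 4, 8, 2, 4, 8, 2, 10, 8, 4, 8, 2, 1, 10, 8, 6, 1, 2, 8, 4, 8, 10, 8, 0, 4, 2, 0, 4, 8, 0, 2, 1, 6, 4, 0, 8, 10] (some (4, 5, false, [0, 4, 9, 6, 2, 8, 2, 4, 8])) [(39, 11, [8, 2, 9, 3, 8, 1, 4]), (24, 26, [1, 6, 0, 2, 7, 0]), (16, 17, [2, 4, 0, 1, 2, 0, 2]), (10, 21, [3, 4, 6, 7, 2, 6])],
    .prod [10, 4, 8, 0, 4, 0, 8, 10, 6, 4, 0, 8, 10, 6, 0, 6, 5, 4, 8, 2, 4, 8, 2, 10, 8, 4, 8, 2, 1, 10, 8, 6, 1, 10, 8, 4, 2, 8, 4, 0] [([10, 4, 8, 0, 4, 0, 8, 10, 6, 4, 0, 8, 10], 80, true), ([], 79, true)],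
    .norm [4, 8, 9, 4, 3, 1, 0, 8, 3, 10, 8, 4, 8, 2, 4, 10, 8, 6, 1, 2, 4, 8, 6, 1, 8, 2, 6, 8, 9, 0, 10, 8, 4, 8, 0, 4, 0, 6, 4, 0, 8, 10] (some (4, 5, false, [8, 9, 4, 8, 6, 3, 1])) [(41, 13, [1, 0, 1, 2, 0, 2, 3, 4]), (30, 23, [1, 9, 1, 6, 9, 2]), (15, 24, [0, 2, 1, 2, 0, 4, 2, 7]), (9, 22, [8, 0, 1, 3, 7, 8, 1, 6])],
    .prod [10, 4, 8, 0, 4, 0, 8, 10, 6, 4, 0, 8, 10, 4, 8, 9, 4, 3, 1, 0, 8, 3, 10, 8, 4, 8, 2, 4, 10, 8, 6, 1, 10, 8, 0, 4, 0, 8, 4, 10, 8, 4, 8] [([10, 4, 8, 0, 4, 0, 8, 10, 6, 4, 0, 8, 10], 82, true), ([], 74, false)],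
    .norm [8, 0, 4, 2, 0, 9, 8, 4, 8, 1, 10, 8, 4, 8, 2, 10, 8, 1, 6, 1, 6, 8, 10, 4, 2, 8, 4, 8, 10, 3, 8, 0, 1, 3, 4, 9, 8, 4] (some (4, 5, false, [2, 6, 2, 8, 4, 9, 8, 2, 4, 3, 2])) [(28, 26, [0, 2, 1, 3, 5, 2, 4, 7]), (22, 18, [3, 6, 2, 5, 0, 1]), (15, 16, [2, 0, 1, 4, 2, 7, 0]), (10, 20, [2, 0, 5, 6, 0, 1])],
    .prod [10, 4, 8, 0, 4, 0, 8, 10, 6, 4, 0, 8, 10, 8, 0, 4, 2, 0, 9, 8, 4, 8, 1, 10, 8, 4, 8, 2, 10, 8, 1, 6, 10, 8, 0, 4, 0, 8, 4, 10, 8, 4, 8] [([10, 4, 8, 0, 4, 0, 8, 10, 6, 4, 0, 8, 10], 84, true), ([], 83, true)],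
    .norm [8, 5, 9, 4, 1, 0, 8, 3, 10, 8, 4, 8, 2, 4, 10, 8, 1, 6, 2, 4, 8, 6, 1, 8, 2, 6, 8, 9, 0, 10, 8, 4, 8, 0, 4, 0, 6, 0, 8, 10] (some (4, 5, false, [8, 9, 4, 8, 6, 3, 1])) [(39, 13, [1, 0, 1, 2, 0, 2, 3, 4]), (29, 22, [1, 0, 4, 0, 1, 2]), (14, 24, [1, 6, 0, 6, 8, 2, 8]), (8, 21, [0, 1, 2, 0, 6, 2, 0, 4])],
    .prod [10, 4, 8, 0, 4, 0, 8, 10, 6, 0, 8, 10, 8, 5, 9, 4, 1, 0, 8, 3, 10, 8, 4, 8, 2, 4, 10, 8, 1, 6, 10, 8, 0, 4, 0, 8, 4, 10, 8, 4, 8] [([10, 4, 8, 0, 4, 0, 8, 10, 6, 0, 8, 10], 86, true), ([], 74, false)],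
    .norm [2, 8, 4, 8, 0, 9, 6, 1, 2, 0, 10, 8, 4, 8, 2, 0, 1, 2, 8, 4, 8, 10, 2, 8, 4, 2, 8, 4, 5, 6, 0, 6, 8, 0, 4, 2, 0, 9, 8, 4, 8, 1, 10, 8, 4, 8, 2] (some (0, 0, false, [5, 8, 0, 8, 6, 9, 8, 1, 2])) [(42, 22, [1, 3, 4, 0, 7]), (21, 26, [0, 2, 3, 9, 8, 5, 2, 8]), (10, 19, [1, 5, 2, 7, 0, 2, 4, 0])],
    .prod [8, 4, 8, 10, 4, 8, 0, 4, 0, 8, 10, 6, 1, 8, 10, 2, 8, 4, 8, 0, 9, 6, 1, 2, 0, 10, 8, 4, 8, 2, 0, 10, 8, 6, 1, 10, 8, 4, 2, 8, 4, 0] [([8, 4, 8, 10, 4, 8, 0, 4, 0, 8, 10, 6, 1, 8, 10], 88, true), ([], 85, false), ([], 81, true)],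
    .norm [1, 0, 8, 4, 2, 8, 4, 2, 9, 5, 8, 10, 0, 2, 0, 2, 3, 8, 4, 9, 6, 10, 0, 7, 8, 6, 0, 1, 2, 4, 8, 6, 2, 6, 8, 4, 5, 0, 1, 8, 4, 6, 10, 4, 6, 8, 2, 4, 8, 9, 0, 2, 10, 1, 8, 4, 6, 2, 1, 5, 8, 0, 8, 4, 2, 8, 4, 2, 9, 5, 8, 10, 0, 2, 0, 2, 3, 8, 4, 9, 6, 10, 0, 7, 8, 6, 0, 1, 2, 4, 8, 6, 2, 6, 8, 4, 5, 0, 1, 8, 4, 6, 10, 4, 6, 8, 2, 4, 8, 9, 0, 2, 10, 1, 8, 4, 6, 2, 1, 5, 8, 1, 8, 4, 8, 10, 8, 6, 2, 6, 8, 0, 4, 9, 1, 10, 8, 4, 8, 2, 4, 9, 10, 8, 2, 8, 6, 9, 0, 1, 6, 0, 8, 10, 8, 5, 9, 4, 1, 0, 8, 3, 10, 8, 4, 8, 2, 4, 2, 8, 4, 8, 0, 9, 6, 1, 2, 0, 10, 8, 4, 8, 2, 0, 10, 8, 6, 1, 10, 8, 4, 2, 8, 4, 0] none [(112, 12, [0, 2, 3, 8, 9, 5, 2, 8]), (102, 26, [1, 4, 2, 0, 4, 6, 7]), (81, 33, [1,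 2, 3, 6, 1, 2, 4]), (71, 26, [6, 7, 2, 1, 0, 4, 0]), (52, 33, [1, 2, 9, 0, 5, 2, 9]), (42, 31, [6, 0, 5, 2, 0, 4, 2]), (21, 32, [1, 3, 6, 0, 5, 2]), (11, 18, [2, 0, 4, 2, 7, 0, 4])],
    .prod [1, 0, 8, 4, 2, 8, 4, 2, 9, 5, 8, 10, 0, 2, 0, 2, 3, 8, 4, 9, 6, 10, 0, 7, 8, 6, 0, 1, 2, 4, 8, 6, 2, 6, 8, 4, 5, 0, 1, 8, 4, 6, 10, 4, 6, 8, 2, 4, 8, 9, 0, 2, 10, 1, 8, 4, 6, 2, 1, 5, 8, 0, 8, 4, 2, 8, 4, 2, 9, 5, 8, 10, 0, 2, 0, 2, 3, 8, 4, 9, 6, 10, 0, 7, 8, 6, 0, 1, 2, 4, 8, 6, 2, 6, 8, 4, 5, 0, 1, 8, 4, 6, 10, 4, 6, 8, 2, 4, 8, 9, 0, 2, 10, 1, 8, 4, 6, 2, 1, 5, 8, 1] [([], 90, true), ([], 89, false), ([], 87, false), ([], 61, true), ([], 77, false)],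
    .norm [6, 7, 6, 7] none [],
    .norm [8, 4, 5, 0, 1, 8, 4, 6, 10, 4, 6, 8, 2, 4, 8, 9, 0, 2, 10, 1, 8, 4, 6, 2, 1, 5, 8, 1, 8, 4, 5, 0, 1, 8, 4, 6, 10, 4, 6, 8, 2, 4, 8, 9, 0, 2, 10, 1, 8, 4, 6, 2, 1, 5, 8, 1] none [(18, 17, [1, 0, 5, 2, 1, 2, 5, 0]), (8, 26, [0, 2, 1, 0, 2, 0, 3])],
    .norm [7, 6, 8, 4, 5, 0, 1, 8, 4, 6, 10, 4, 6, 8, 2, 4, 8, 9, 0, 2, 10, 1, 8, 4, 6, 2, 1, 5, 8, 1, 7, 6, 8, 4, 5, 0, 1, 8, 4, 6, 10, 4, 6, 8, 2, 4, 8, 9, 0, 2, 10, 1, 8, 4, 6, 2, 1, 5, 8, 1, 7, 6, 8, 4, 5, 0, 1, 8, 4, 6, 10, 4, 6, 8, 2, 4, 8, 9, 0, 2, 10, 1, 8, 4, 6, 2, 1, 5, 8, 1, 7, 6, 8, 4, 5, 0, 1, 8, 4, 6, 10, 4, 6, 8, 2, 4, 8, 9, 0, 2, 10, 1, 8, 4, 6, 2, 1, 5, 8, 1] none [(20, 19, [1, 7, 2, 1, 2, 1,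 0, 6]), (10, 26, [6, 1, 0, 2, 6, 1, 2, 4]), (47, 19, [1, 7, 2, 1, 2, 1, 0, 6]), (37, 26, [6, 1, 0, 2, 6, 1, 2, 4])],
    .norm [4, 2, 6, 8, 4, 2, 1, 0, 6, 8, 7, 0, 10, 6, 9, 4, 8, 3, 2, 0, 2, 0, 10, 8, 5, 9, 2, 4, 8, 2, 4, 8, 0, 1, 5, 2, 6, 8, 4, 2, 1, 0, 6, 8, 7, 0, 10, 6, 9, 4, 8, 3, 2, 0, 2, 0, 10, 8, 5, 9, 2, 4, 8, 2, 4, 8, 0, 1, 5, 2, 6, 8, 4, 2, 1, 0, 6, 8, 7, 0, 10, 6, 9, 4, 8, 3, 2, 0, 2, 0, 10, 8, 5, 9, 2, 4, 8, 2, 4, 8, 0, 1, 5, 2, 6, 8, 4, 2, 1, 0, 6, 8, 7, 0, 10, 6, 9, 4, 8, 3, 2, 0, 2, 0, 10, 8, 5, 9, 2, 4, 8, 2, 4, 8, 0, 1, 5] none [(22, 23, [9, 2, 1, 6, 2, 9, 1]), (38, 23, [9, 2, 1, 6, 2, 9, 1]), (54, 23, [9, 2, 1, 6, 2, 9, 1]), (12, 57, [2, 1, 8, 9, 2, 3, 8])],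
    .norm [4, 1, 8, 5, 1, 2, 6, 4, 8, 1, 10, 2, 0, 9, 8, 4, 2, 8, 6, 4, 10, 6, 4, 8, 1, 0, 5, 4, 8, 6, 7, 1, 8, 5, 1, 2, 6, 4, 8, 1, 10, 2, 0, 9, 8, 4, 2, 8, 6, 4, 10, 6, 4, 8, 1, 0, 5, 4, 8, 6, 7] none [(20, 19, [6, 0, 1, 2, 1, 2, 1, 7]), (10, 26, [4, 2, 1, 6, 2, 0, 1, 6])],
    .prod [0, 8, 4, 8, 10, 2, 6, 9, 7, 6, 10, 9, 10, 8, 4, 2, 8] [([0, 8, 4, 8, 10], 24, true)],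
    .prod [8, 2, 4, 8, 10, 4, 8, 0, 4, 0, 8, 10, 0, 4, 8, 2, 4, 2, 8, 0, 5, 10, 8, 0, 4, 0, 8, 10, 8, 4, 8, 0, 4] [([8, 2, 4, 8, 10, 4, 8, 0, 4, 0, 8, 10], 26, true)],
    .prod [4, 8, 2, 4, 8, 10, 8, 0, 4, 0, 8, 10, 0, 8, 1, 2, 4, 8, 0, 4, 1, 0, 10, 8, 0, 4, 0, 8, 4, 10, 8, 4, 8, 0] [([4, 8, 2, 4, 8, 10, 8, 0, 4, 0, 8, 10], 28, true)]]

/-- Records. -/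
def localRecs2 : List Rec :=
  [.prod [4, 8, 2, 4, 8, 10, 8, 0, 4, 0, 8, 10, 4, 0, 8, 9, 4, 2, 8, 4, 2, 8, 3, 10, 8, 4, 8, 0, 4, 0, 10, 8, 0, 4, 0, 8, 10, 8, 4, 2, 8] [([4, 8, 2, 4, 8, 10, 8, 0, 4, 0, 8, 10], 30, true), ([], 99, true), ([], 97, true)],
    .prod [4, 0, 8, 4, 8, 10, 6, 2, 8, 0, 9, 8, 2, 0, 8, 4, 10, 8, 3, 4, 8, 10, 8, 0, 4, 0, 8, 10, 8, 4, 2, 8] [([4, 0, 8, 4, 8, 10], 32, true), ([], 98, false)],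
    .norm [5, 8, 2, 4, 8, 0, 10, 1, 8, 2, 3, 4, 9, 8, 0, 4, 5, 7, 5, 8, 2, 4, 8, 0, 10, 1, 8, 2, 3, 4, 9, 8, 0, 4, 5, 7, 5, 8, 2, 4, 8, 0, 10, 1, 8, 2, 3, 4, 9, 8, 0, 4, 5, 7, 5, 8, 2, 4, 8, 0, 10, 1, 8, 2, 3, 4, 9, 8, 0, 4, 5, 7, 5, 8, 2, 4, 8, 0, 10, 1, 8, 2, 3, 4, 9, 8, 0, 4, 5, 7, 4, 0, 8, 4, 8, 10, 6, 2, 8, 0, 9, 8, 2, 0, 8, 4, 10, 8, 3, 4, 8, 0, 4, 0, 8, 4, 8, 10, 3, 8, 2, 4, 8, 2, 4, 9, 8, 0, 4, 0, 8, 1, 2, 4, 8, 0, 4, 1, 0, 10, 8, 0, 4, 0, 8, 4, 10, 8, 4, 8, 0] none [(78, 16, [4, 0, 4, 2, 4, 5]), (60, 33, [2, 7, 8, 2, 3, 9, 8, 1]), (42, 35, [1, 2, 0, 2, 1, 2, 0, 1]), (24, 46, [3, 4, 0, 5, 2, 7]), (6, 29, [2, 0, 8, 9, 2, 9, 8, 0])],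
    .prod [5, 8, 2, 4, 8, 0, 10, 1, 8, 2, 3, 4, 9, 8, 0, 4, 5, 7, 5, 8, 2, 4, 8, 0, 10, 1, 8, 2, 3, 4, 9, 8, 0, 4, 5, 7, 5, 8, 2, 4, 8, 0, 10, 1, 8, 2, 3, 4, 9, 8, 0, 4, 5, 7, 5, 8, 2, 4, 8, 0, 10, 1, 8, 2, 3, 4, 9, 8, 0, 4, 5, 7, 5, 8, 2, 4, 8, 0, 10, 1, 8, 2, 3, 4, 9, 8, 0, 4, 5, 7] [([], 102, true), ([], 99, false), ([], 100, true), ([], 101, false)],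
    .prod [4, 0, 8, 4, 8, 10, 2, 6, 9, 7, 6, 10, 9, 10, 8, 4, 2, 8, 4] [([4, 0, 8, 4, 8, 10], 24, true)],
    .prod [8, 4, 3, 8, 10, 0, 2, 9, 1, 2, 0, 4, 10, 9, 10, 8, 4, 8] [([8, 4, 3, 8, 10], 3, true)],
    .norm [5, 4, 8, 1, 0, 8, 0, 4, 10, 9, 10, 8, 6, 2, 4, 8, 2, 8, 1, 2, 0, 8, 10] (some (0, 0, false, [1, 2, 4, 2, 6, 9, 0])) [(22, 14, [3, 4, 2, 8, 2, 8, 6]), (10, 19, [9, 2, 6, 7, 9, 0]), (8, 8, [1, 4, 6, 2, 0, 2, 7])],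
    .prod [0, 4, 0, 8, 4, 8, 10, 4, 8, 0, 4, 0, 8, 10, 2, 8, 1, 2, 0, 8, 10, 5, 4, 8, 1, 0, 8, 0, 4, 10, 9, 10, 8, 6, 2, 4, 8, 10, 8, 0, 4, 0, 8, 4, 10, 8, 4, 8, 0, 4, 0] [([0, 4, 0, 8, 4, 8, 10, 4, 8, 0, 4, 0, 8, 10, 2, 8, 1, 2, 0, 8, 10], 106, true)],
    .prod [10, 8, 0, 4, 0, 8, 10, 1, 0, 9, 6, 8, 2, 8, 10, 9, 10, 8, 4, 8, 2, 10] [([10, 8, 0, 4, 0, 8, 10], 4, true)],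
    .norm [6, 4, 9, 0, 7, 6, 1, 10, 9, 10, 8, 0, 1, 8, 10] (some (0, 0, false, [1, 2, 4, 2, 6, 9, 0])) [(14, 14, [3, 4, 2, 8, 2, 8, 6]), (9, 12, [1, 0, 2, 8, 2, 7, 8]), (7, 9, [0, 1, 3, 4])],
    .prod [10, 4, 2, 8, 4, 8, 10, 6, 2, 1, 8, 10, 6, 4, 9, 0, 7, 6, 1, 10, 9, 10, 8, 0, 2, 6, 10, 8, 4, 8, 2, 4, 10] [([10, 4, 2, 8, 4, 8, 10, 6, 2, 1, 8, 10], 109, true)],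
    .prod [10, 4, 8, 0, 4, 0, 8, 10, 1, 0, 9, 6, 8, 2, 8, 10, 9, 10, 8, 4, 8, 2, 4, 10] [([10, 4, 8, 0, 4, 0, 8, 10], 4, true)],
    .norm [8, 2, 9, 8, 2, 1, 2, 10, 9, 10, 8, 6, 2, 0, 8, 1, 8, 10] (some (0, 0, false, [1, 2, 4, 2, 6, 9, 0])) [(17, 14, [3, 4, 2, 8, 2, 8, 6]), (9, 15, [4, 8, 2, 5, 9, 8, 0]), (7, 9, [0, 4, 2, 1, 0, 4, 2, 6])],
    .prod [0, 4, 0, 8, 4, 8, 10, 0, 8, 1, 8, 10, 8, 2, 9, 8, 2, 1, 2, 10, 9, 10, 8, 6, 2, 10, 8, 4, 8, 0, 4, 0] [([0, 4, 0, 8, 4, 8, 10, 0, 8, 1, 8, 10], 112, true)],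
    .norm [9, 8, 1, 0, 8, 9, 6, 1, 0, 10, 9, 10, 9, 10] (some (0, 0, false, [1, 2, 4, 2, 6, 9, 0])) [(13, 14, [3, 4, 2, 8, 2, 8, 6]), (11, 9, [2, 0, 8, 5, 2, 9, 8]), (9, 9, [1, 0, 2, 6, 0, 2, 5])],
    .prod [9, 10, 9, 8, 1, 0, 8, 9, 6, 1, 0, 10, 9, 10] [([9, 10], 114, true)],
    .norm [0, 8, 4, 8, 2, 0, 6, 8, 3, 1, 10, 8, 4, 8, 2, 1, 10, 8, 1, 8, 0, 4, 0, 8, 10, 2, 8, 1, 2, 0, 8, 10] (some (4, 5, false, [5, 9, 6, 2, 4, 8, 4, 8])) [(31, 8, [0, 2, 0, 2, 4, 0, 4, 5]), (24, 19, [4, 0, 5, 2, 1, 4, 2]), (16, 18, [2, 1, 0, 4, 6, 2, 4]), (10, 21, [5, 2, 0, 2, 6, 0, 1])],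
    .prod [0, 4, 0, 8, 4, 8, 10, 4, 8, 0, 4, 0, 8, 10, 2, 8, 1, 2, 0, 8, 10, 0, 8, 4, 8, 2, 0, 6, 8, 3, 1, 10, 8, 4, 8, 2, 1, 10, 8, 1, 4, 10, 8, 4, 8, 0, 4, 0] [([0, 4, 0, 8, 4, 8, 10, 4, 8, 0, 4, 0, 8, 10, 2, 8, 1, 2, 0, 8, 10], 116, true)],
    .norm [8, 6, 2, 6, 8, 9, 4, 3, 2, 10, 8, 0, 4, 0, 8, 4, 10, 8, 6, 2, 4, 1, 8, 10, 1, 2, 8, 4, 8, 10, 1, 3, 8, 6, 0, 2, 8, 4, 8, 0] (some (4, 5, false, [8, 6, 1, 0, 6, 4, 8, 4, 3, 1, 0])) [(29, 27, [4, 6, 9, 2, 1, 9]), (23, 16, [6, 2, 1, 0, 7, 2]), (16, 16, [4, 0, 1, 4, 6]), (9, 20, [2, 1, 3, 7, 0, 2, 1, 4])],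
    .prod [0, 4, 0, 8, 4, 8, 10, 4, 8, 0, 4, 0, 8, 10, 2, 8, 1, 2, 0, 8, 10, 8, 6, 2, 6, 8, 9, 4, 3, 2, 10, 8, 0, 4, 0, 8, 4, 10, 8, 6, 2, 10, 8, 4, 8, 0, 4, 0] [([0, 4, 0, 8, 4, 8, 10, 4, 8, 0, 4, 0, 8, 10, 2, 8, 1, 2, 0, 8, 10], 118, true), ([], 117, true)],
    .norm [8, 3, 9, 2, 4, 8, 2, 4, 2, 0, 10, 8, 6, 2, 4, 2, 9, 8, 2, 1, 2, 10, 9, 4, 8, 0, 4, 0, 8, 10, 2, 3, 4, 9, 8, 6, 2, 6, 8, 5, 4, 8, 1, 0, 8, 0, 4, 10, 9] (some (4, 1, true, [8, 1, 0, 2, 4, 8, 9, 1, 2, 1])) [(47, 17, [5, 2, 1, 6, 7]), (29, 31, [0, 9, 1, 3, 9, 2, 4]), (21, 18, [0, 1, 6, 1, 8, 2, 8, 1]), (10, 23, [2, 0, 1, 2, 6, 0, 7])],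
    .prod [0, 4, 0, 8, 4, 8, 10, 4, 8, 0, 4, 0, 8, 10, 8, 4, 2, 6, 8, 10, 8, 3, 9, 2, 4, 8, 2, 4, 2, 0, 10, 8, 6, 2, 4, 8, 10, 8, 1, 8, 0, 10, 8, 4, 8, 0, 4, 0] [([0, 4, 0, 8, 4, 8, 10, 4, 8, 0, 4, 0, 8, 10, 8, 4, 2, 6, 8, 10], 120, true), ([], 107, false), ([], 119, true), ([], 113, false)],
    .norm [8, 4, 2, 1, 8, 4, 3, 8, 3, 10, 8, 4, 8, 2, 0, 10, 8, 0, 4, 0, 8, 1, 8, 10, 8, 4, 2, 6, 8, 10, 0, 2, 4, 2, 8, 4, 2, 9, 3, 8] (some (4, 5, false, [8, 4, 8, 6, 1, 2, 6, 9, 8, 5, 0])) [(29, 25, [2, 0, 1, 7, 0, 4, 0]), (23, 17, [0, 8, 9, 2, 3, 8]), (15, 17, [0, 2, 5, 9, 6, 1, 9, 2]), (9, 22, [0, 2, 1, 3, 4, 2, 0, 4])],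
    .prod [0, 4, 0, 8, 4, 8, 10, 4, 8, 0, 4, 0, 8, 10, 8, 4, 2, 6, 8, 10, 8, 4, 2, 1, 8, 4, 3, 8, 3, 10, 8, 4, 8, 2, 0, 10, 8, 0, 4, 10, 8, 4, 8, 0, 4, 0] [([0, 4, 0, 8, 4, 8, 10, 4, 8, 0, 4, 0, 8, 10, 8, 4, 2, 6, 8, 10], 122, true), ([], 121, true)],
    .norm [0, 4, 0, 8, 2, 0, 2, 4, 8, 3, 10, 8, 0, 2, 4, 8, 10, 8, 0, 2, 4, 8, 10, 8, 2, 4, 8, 10, 4, 8, 0, 4, 0, 8, 10] (some (1, 0, false, [4, 2, 1, 8, 2, 9, 6, 2, 4, 8])) [(34, 20, [5, 2, 5, 0, 1, 5, 2]), (27, 23, [5, 2, 1, 4, 5]), (22, 19, [0, 6, 1, 0, 2, 1]), (16, 21, [9, 8, 2, 8, 0, 1, 9]), (10, 22, [1, 2, 0, 9, 2, 6, 9, 0])],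
    .prod [8, 2, 4, 8, 10, 4, 8, 0, 4, 0, 8, 10, 0, 4, 0, 8, 2, 0, 2, 4, 8, 3, 10, 8, 0, 2, 4, 8, 10, 8, 0, 2, 4, 8, 10] [([8, 2, 4, 8, 10, 4, 8, 0, 4, 0, 8, 10], 124, true)],
    .norm [4, 1, 0, 2, 4, 0, 9, 10, 8, 0, 4, 0, 8, 10, 8, 0, 2, 1, 8, 4, 8, 4, 2, 0, 8, 10, 8, 4, 2, 0, 8, 10, 3, 8, 4, 2, 0, 2, 8, 0, 4, 0] (some (4, 5, false, [9, 2, 1, 2, 1, 6, 5, 0])) [(31, 24, [0, 1, 2, 5, 9, 1, 6, 9]), (25, 18, [0, 2, 1, 3, 6, 0, 4]), (13, 22, [2, 1, 5, 2, 8, 2, 8, 5]), (7, 22, [0, 7, 2, 8, 2, 8, 4])],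
    .prod [8, 2, 4, 8, 10, 4, 8, 0, 4, 0, 8, 10, 4, 1, 0, 2, 4, 0, 9, 10, 8, 0, 4, 0, 8, 10, 8, 0, 2, 1, 8, 4, 10] [([8, 2, 4, 8, 10, 4, 8, 0, 4, 0, 8, 10], 126, true), ([], 125, true)],
    .prod [8, 2, 4, 8, 10, 4, 8, 0, 4, 0, 8, 10, 0, 4, 8, 2, 4, 2, 8, 0, 5, 10, 8, 0, 4, 0, 8, 10, 8, 4, 8, 0, 4] [([8, 2, 4, 8, 10, 4, 8, 0, 4, 0, 8, 10], 26, true)],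
    .norm [0, 4, 0, 8, 4, 8, 10, 2, 6, 9, 7, 6, 10, 9, 10, 8, 4, 2, 8, 4, 0] (some (0, 0, false, [0, 9, 4, 8, 3, 9, 2, 4, 8, 0])) [(14, 21, [0, 2, 6, 1, 2, 5, 6]), (12, 9, [1, 4, 8, 0, 1, 3, 8, 6]), (6, 14, [2, 1, 4, 6, 2, 1, 6])],
    .prod [10, 2, 8, 4, 8, 10, 8, 0, 4, 0, 8, 10, 0, 4, 0, 8, 4, 8, 10, 2, 6, 9, 7, 6, 10, 9, 10, 8, 4, 2, 8, 4, 0, 10, 8, 0, 4, 0, 8, 10, 8, 4, 8, 2, 10] [([10, 2, 8, 4, 8, 10, 8, 0, 4, 0, 8, 10], 129, true)],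
    .prod [10, 2, 8, 4, 8, 10, 1, 0, 9, 6, 8, 2, 8, 10, 9, 10, 8, 0, 4, 0, 8, 10] [([10], 11, true)],
    .prod [10, 8, 0, 4, 0, 8, 10, 2, 4, 8, 6, 5, 0, 6, 4, 8, 10, 8, 0, 4, 0, 8, 4, 10, 8, 3, 4, 8] [([], 13, true)],
    .norm [0, 4, 0, 8, 4, 8, 10, 9, 8, 6, 0, 8, 5, 0, 2, 8, 10, 8, 4, 8, 0, 4, 0, 9, 10, 8, 2, 8, 6, 9, 0, 1, 8, 0, 4, 0, 8, 10] (some (4, 1, true, [1, 2, 4, 8, 6, 0, 8, 0, 9, 8, 0])) [(37, 17, [2, 6, 1, 8, 1, 0, 9, 8]), (24, 29, [0, 1, 2, 1, 2, 3, 6]), (16, 18, [3, 7, 2, 1, 6]), (6, 19, [7, 9, 8, 1, 0, 8, 1])],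
    .prod [10, 2, 8, 4, 8, 10, 8, 0, 4, 0, 8, 10, 0, 4, 0, 8, 4, 8, 10, 9, 8, 6, 0, 8, 5, 0, 2, 8, 10, 8, 4, 8, 0, 4, 0, 10, 8, 0, 4, 0, 8, 10] [([10, 2, 8, 4, 8, 10, 8, 0, 4, 0, 8, 10], 133, true), ([], 131, true)],
    .norm [9, 10, 6, 7, 9, 6, 2, 9, 8, 6, 0, 8, 5, 0, 2, 8, 10, 8, 4, 8, 0, 4, 0, 9, 8, 5, 4, 8, 6, 4, 2, 10, 8, 4, 8, 10, 8, 0, 4, 0, 8] (some (4, 1, true, [8, 5, 2, 8, 4, 0, 6, 4])) [(35, 17, [2, 1, 6, 7, 9, 1, 9]), (31, 19, [4, 2, 0, 2, 9, 0, 9]), (16, 25, [4, 6, 7, 8, 0, 1, 3, 8]), (1, 27, [2, 4, 2, 5, 8, 2, 8, 0])],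
    .prod [10, 8, 0, 4, 0, 8, 10, 9, 8, 5, 4, 8, 6, 4, 2, 10, 8, 4, 8, 10, 8, 0, 4, 0, 8, 10, 8, 4, 2, 8, 4, 0, 10, 8, 0, 4, 0, 8, 10, 8, 4, 8, 2, 10] [([], 134, false), ([], 130, true), ([10, 2, 8, 4, 8, 10, 8, 0, 4, 0, 8, 10, 0, 4, 8, 2, 4, 8, 10], 135, true)],
    .norm [8, 4, 3, 8, 10, 4, 8, 0, 4, 0, 8, 10, 8, 4, 6, 0, 5, 6, 8, 4, 2, 9, 8, 5, 4, 8, 6, 4, 2, 10, 8, 4, 8, 10, 8, 0, 4, 0, 8, 1, 9, 0, 6, 2, 4, 8, 4, 8, 2, 10, 9] (some (1, 0, false, [0, 1, 8, 4, 0, 4, 8, 2, 6])) [(49, 20, [6, 2, 1, 2, 5, 6, 0]), (33, 32, [3, 7, 2, 0, 4]), (29, 18, [1, 2, 0, 4, 9, 6, 9, 2]), (11, 35, [6, 0, 2, 4, 6, 0, 2]), (4, 23, [1, 5, 0, 6, 2, 1, 2, 7])],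
    .prod [10, 2, 8, 4, 8, 10, 8, 0, 4, 0, 8, 10, 0, 4, 8, 2, 4, 8, 10, 1, 9, 0, 6, 2, 4, 8, 4, 8, 2, 10, 9] [([], 136, false), ([], 132, true), ([], 137, true)],
    .norm [2, 4, 9, 0, 5, 1, 2, 10, 8, 0, 4, 0, 8, 4, 8, 0, 4, 0, 8, 10, 9, 0, 4, 2, 0, 1, 4, 0, 4, 8, 2, 4, 2, 8, 0, 5, 10, 8, 0, 4, 0, 8, 2, 6, 9, 7, 6, 10, 9, 8, 0, 4, 0, 8, 2, 8, 4, 8, 10, 8, 0, 4, 0, 8, 10, 0, 4, 8, 2, 4, 8, 10, 1, 9, 0, 6, 2, 4, 8, 4, 8, 2, 10, 9] none [(47, 10, [1, 2, 1, 0]), (36, 19, [0, 1, 8, 2, 8, 0, 5, 2]), (19, 30, [2, 1, 7, 2, 4, 6]), (7, 27, [2, 1, 0, 3, 4, 5, 2])],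
    .prod [2, 4, 9, 0, 5, 1, 2, 10, 8, 0, 4, 0, 8, 4, 8, 0, 4, 0, 8, 10, 9, 0, 4, 2, 0, 1, 4, 0, 4, 8, 2, 4, 2, 8, 0, 5, 10, 8, 0, 4, 0, 8, 2, 6, 9, 7, 6, 10, 9, 8, 0, 4, 0, 8, 10] [([], 139, true), ([], 138, false)],
    .prod [4, 8, 2, 4, 8, 10, 8, 0, 4, 0, 8, 10, 2, 4, 9, 0, 5, 1, 2, 10, 8, 0, 4, 0, 8, 4, 10, 8, 0, 2, 1, 8, 4, 10] [([4, 8, 2, 4, 8, 10, 8, 0, 4, 0, 8, 10], 140, true), ([], 104, false), ([], 128, false), ([], 127, true)],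
    .prod [4, 8, 2, 4, 8, 10, 8, 0, 4, 0, 8, 10, 0, 8, 1, 2, 4, 8, 0, 4, 1, 0, 10, 8, 0, 4, 0, 8, 4, 10, 8, 4, 8, 0] [([4, 8, 2, 4, 8, 10, 8, 0, 4, 0, 8, 10], 28, true)],
    .norm [0, 1, 0, 2, 0, 2, 8, 4, 8, 2, 10, 8, 0, 2, 1, 8, 9, 8, 1, 0, 8, 9, 6, 1, 0, 10, 9, 4, 8, 1, 2, 0, 8, 10, 4, 8, 0, 4, 0, 8, 10, 2, 1, 5, 0, 9, 4, 2] (some (4, 1, true, [4, 1, 2, 6, 8, 0, 4, 0, 8, 0])) [(40, 23, [2, 0, 2, 5, 0, 1, 2, 7]), (33, 23, [2, 9, 1, 0, 9, 2, 4]), (25, 18, [0, 4, 2, 8, 0, 1, 3, 8]), (10, 27, [2, 1, 2, 0, 6, 0, 1, 6])],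
    .prod [4, 8, 2, 4, 8, 10, 8, 0, 4, 0, 8, 10, 0, 1, 0, 2, 0, 2, 8, 4, 8, 2, 10, 8, 0, 2, 1, 8, 10, 9] [([4, 8, 2, 4, 8, 10, 8, 0, 4, 0, 8, 10], 143, true), ([], 141, true), ([], 115, false)],
    .prod [0, 4, 0, 8, 4, 8, 10, 8, 0, 4, 0, 8, 10, 8, 2, 6, 1, 9, 2, 1, 8, 5, 10, 8, 4, 8, 10, 8, 0, 4, 0, 8, 4, 10] [([0, 4, 0, 8, 4, 8, 10, 8, 0, 4, 0, 8, 10], 5, true)],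
    .prod [0, 4, 0, 8, 4, 8, 10, 8, 0, 4, 0, 8, 10, 7, 0, 8, 9, 4, 2, 8, 4, 2, 8, 10, 8, 4, 8, 0, 4, 0, 10, 8, 0, 4, 0, 8, 10, 8, 4, 8] [([0, 4, 0, 8, 4, 8, 10, 8, 0, 4, 0, 8, 10], 6, true)],
    .prod [0, 4, 0, 8, 4, 8, 10, 8, 0, 4, 0, 8, 10, 4, 9, 0, 6, 2, 4, 0, 10, 8, 0, 4, 0, 8, 4, 10, 8, 4, 8, 2, 10] [([0, 4, 0, 8, 4, 8, 10, 8, 0, 4, 0, 8, 10], 7, true), ([], 145, true)],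
    .prod [0, 4, 0, 8, 4, 8, 10, 8, 0, 4, 0, 8, 10, 7, 6, 0, 8, 2, 4, 8, 2, 6, 10, 8, 4, 8, 2, 10, 8, 3, 4, 8] [([0, 4, 0, 8, 4, 8, 10, 8, 0, 4, 0, 8, 10], 8, true), ([], 146, true), ([], 105, false)],
    .norm [4, 2, 4, 8, 6, 2, 6, 8, 7, 3, 10, 8, 4, 8, 2, 4, 9, 8, 1, 0, 8, 9, 6, 1, 0, 10, 9, 4, 8, 0, 4, 0, 8, 10, 8, 4, 8, 10, 5, 8, 1, 2, 9, 1, 6, 2, 8] (some (4, 5, false, [8, 4, 3, 8, 0, 4, 8, 2, 4, 8, 5])) [(37, 24, [0, 1, 2, 6, 0, 6, 1]), (33, 15, [3, 4, 7, 0, 1, 4]), (25, 17, [0, 9, 0, 6, 9, 2]), (10, 29, [0, 8, 6, 0, 6, 8, 0, 4])]]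

/-- Records. -/
def localRecs3 : List Rec :=
  [.prod [0, 4, 0, 8, 4, 8, 10, 8, 0, 4, 0, 8, 10, 4, 2, 4, 8, 6, 2, 6, 8, 7, 3, 10, 8, 4, 8, 2, 4, 10, 9] [([0, 4, 0, 8, 4, 8, 10, 8, 0, 4, 0, 8, 10], 149, true), ([], 145, true), ([], 115, false)],
    .prod [8, 4, 8, 10, 4, 8, 0, 4, 0, 8, 10, 0, 1, 2, 1, 2, 6, 5, 9, 10, 8, 0, 4, 0, 8, 10, 8, 4, 8, 2, 10] [([8, 4, 8, 10, 4, 8, 0, 4, 0, 8, 10], 20, true), ([], 105, false), ([], 148, false), ([], 147, true)],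
    .prod [8, 4, 8, 10, 4, 8, 0, 4, 0, 8, 10, 8, 6, 8, 0, 8, 0, 7, 1, 10, 8, 4, 8, 10, 8, 0, 4, 0, 8, 4, 10, 8, 4, 8, 0, 4, 0] [([8, 4, 8, 10, 4, 8, 0, 4, 0, 8, 10], 72, true), ([], 151, true), ([], 147, false)],
    .prod [8, 4, 8, 10, 4, 8, 0, 4, 0, 8, 10, 2, 4, 8, 6, 1, 8, 2, 6, 8, 9, 0, 10, 8, 4, 8, 0, 4, 0, 10, 8, 0, 4, 0, 8, 4, 10] [([8, 4, 8, 10, 4, 8, 0, 4, 0, 8, 10], 21, true), ([], 151, true)],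
    .norm [8, 4, 2, 8, 5, 9, 4, 0, 10, 8, 0, 4, 0, 8, 9, 8, 1, 0, 8, 9, 6, 1, 0, 10, 9, 2, 8, 4, 8, 10, 8, 0, 4, 0, 8, 10, 9, 5, 6, 2, 1, 2, 1, 0] (some (4, 5, false, [8, 9, 4, 8, 6, 0, 7, 0])) [(35, 22, [1, 3, 6]), (29, 13, [0, 2, 6, 0, 2, 1, 0]), (23, 16, [2, 0, 1, 5, 2, 1, 2, 6]), (8, 31, [0, 8, 2, 8, 2, 6, 2])],
    .prod [8, 4, 8, 10, 4, 8, 0, 4, 0, 8, 10, 8, 4, 2, 8, 5, 9, 4, 0, 10, 8, 0, 4, 0, 8, 10, 9] [([8, 4, 8, 10, 4, 8, 0, 4, 0, 8, 10], 154, true), ([], 151, true), ([], 115, false)],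
    .norm [2, 8, 4, 2, 8, 6, 3, 1, 2, 1, 10, 8, 3, 8, 10, 1, 7, 0, 8, 0, 8, 6, 4, 2, 8, 5, 9, 4, 0, 10, 8, 0, 4, 0, 8] (some (0, 0, false, [2, 6, 8, 4, 8, 7, 6, 3])) [(29, 22, [0, 8, 2, 7, 8, 4]), (14, 21, [0, 5, 2, 1, 5, 2, 0]), (10, 11, [0, 2, 1, 6, 2, 0])],
    .prod [9, 10, 2, 8, 4, 2, 8, 6, 3, 1, 2, 1, 10, 8, 3, 4, 8, 10, 8, 0, 4, 0, 8, 4, 10, 8, 4, 8, 0, 4, 0] [([9, 10], 156, true), ([], 155, false), ([], 152, true)],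
    .norm [4, 2, 4, 8, 4, 0, 1, 2, 8, 0, 10, 8, 4, 2, 8, 0, 8, 4, 8, 10, 8, 2, 4, 8, 2, 4, 9, 8, 0, 7, 4, 2, 4, 8, 6, 2, 6, 8, 7, 3, 10, 8, 4, 8, 2, 4] (some (0, 0, false, [4, 2, 5, 8, 4, 1, 0, 2, 8, 2])) [(40, 20, [1, 2, 1, 2, 4, 0, 5, 6]), (19, 29, [0, 1, 0, 4, 2, 1, 4, 6]), (10, 17, [0, 1, 6, 0, 1, 2, 1])],
    .prod [9, 10, 4, 2, 4, 8, 4, 0, 1, 2, 8, 0, 10, 8, 4, 2, 8, 4, 0, 10, 8, 0, 4, 0, 8, 10, 8, 4, 8] [([9, 10], 158, true), ([], 150, false), ([], 146, true)],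
    .prod [8, 4, 3, 8, 10, 4, 8, 6, 8, 1, 2, 6, 8, 2, 0, 10, 8, 4, 2, 8, 4, 0, 10, 8, 0, 4, 0, 8, 10] [([8, 4, 3, 8, 10], 49, true), ([], 148, false), ([], 147, true), ([], 108, false)],
    .prod [8, 4, 3, 8, 10, 6, 8, 1, 8, 9, 4, 2, 4, 8, 1, 10, 8, 4, 2, 8, 4, 0, 10, 8, 0, 4, 0, 8, 4, 10, 8, 4, 8, 0, 4, 0] [([8, 4, 3, 8, 10], 50, true), ([], 148, false)],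
    .prod [8, 4, 8, 10, 8, 6, 2, 6, 8, 0, 4, 9, 1, 10, 8, 4, 8, 2, 4, 10, 8, 4, 8, 2, 4, 10] [([8, 4, 8, 10], 22, true), ([], 153, true), ([], 111, true)],
    .prod [10, 8, 0, 4, 0, 8, 10, 6, 2, 8, 7, 6, 4, 0, 8, 4, 8, 1, 10, 8, 4, 8, 0, 4, 0, 10, 8, 0, 4, 0, 8, 4, 10, 8, 4, 8, 0, 4, 0] [([10, 8, 0, 4, 0, 8, 10], 51, true), ([], 160, false), ([], 161, true)],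
    .norm [8, 4, 1, 0, 9, 8, 7, 1, 0, 10, 8, 4, 8, 0, 4, 8, 2, 4, 8, 10, 0, 8, 2, 1, 0, 4, 8, 4, 2, 4, 2, 8, 4, 2, 8, 6, 3, 1, 2, 1, 10, 8, 3, 4, 8, 0, 4, 0, 8, 4, 8, 10, 1, 8, 4, 8, 0, 4, 6, 7, 8, 2, 6] (some (4, 1, true, [8, 0, 8, 2, 0, 9, 8, 4, 0])) [(51, 26, [6, 0, 4, 7, 8, 2, 8, 2]), (40, 27, [0, 1, 9, 2, 6, 9]), (19, 30, [1, 2, 0, 2, 1, 0, 5]), (9, 21, [2, 0, 9, 1, 2, 9, 6])],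
    .prod [10, 8, 0, 4, 0, 8, 10, 8, 4, 1, 0, 9, 8, 7, 1, 0, 10, 8, 4, 8, 10, 8, 0, 4, 0, 8, 10, 8, 4, 8] [([10, 8, 0, 4, 0, 8, 10], 164, true), ([], 163, true), ([], 157, false), ([], 159, true)],
    .norm [6, 2, 4, 9, 2, 6, 10, 8, 0, 4, 0, 8, 2, 8, 4, 8, 10, 1, 9, 4, 0, 8, 6, 2, 6, 0, 4, 0, 8, 10] (some (0, 0, false, [1, 2, 4, 2, 6, 9, 0])) [(29, 14, [3, 4, 2, 8, 2, 8, 6]), (16, 20, [1, 6, 7, 0, 4, 2, 1]), (6, 17, [1, 0, 6, 7])],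
    .prod [8, 4, 8, 10, 8, 0, 4, 0, 8, 10, 6, 2, 4, 9, 2, 6, 10, 8, 0, 4, 0, 8, 4, 10, 8, 4, 8, 2, 4, 10] [([8, 4, 8, 10, 8, 0, 4, 0, 8, 10], 166, true), ([], 162, true)],
    .norm [2, 8, 1, 8, 0, 6, 8, 3, 10, 9, 0, 4, 0, 8, 4, 8, 10, 1, 8, 4, 8, 0, 4, 6, 7, 8, 2, 6, 8, 4, 1, 0, 9, 8, 7, 1, 0, 10, 8, 4, 8, 6, 2, 4, 9, 2, 6, 10, 8, 0, 4, 0, 8, 4] (some (4, 5, false, [2, 8, 0, 2, 0, 2, 8, 5, 4, 2, 0])) [(47, 23, [0, 2, 4, 5, 0, 7, 2, 1]), (37, 22, [5, 6, 2, 6, 1, 2]), (16, 30, [8, 6, 0, 6, 8, 4, 6]), (8, 23, [1, 2, 0, 1, 5, 2, 0, 4])],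
    .prod [10, 4, 2, 8, 4, 8, 10, 2, 8, 1, 8, 0, 6, 8, 3, 10, 9, 10, 8, 0, 4, 0, 8, 4, 10, 8, 4, 8, 0, 4, 0] [([10, 4, 2, 8, 4, 8, 10], 168, true), ([], 167, false), ([], 165, false), ([], 163, true)],
    .norm [9, 2, 8, 4, 8, 9, 6, 1, 2, 10, 8, 0, 2, 1, 8, 6, 10, 8, 3, 4, 2, 8, 1, 8, 0, 6, 8, 3, 10, 9, 2, 8, 1, 2, 0, 8, 10] (some (4, 5, false, [5, 8, 1, 0, 1, 2, 0, 8])) [(36, 12, [0, 2, 1, 6, 2, 5, 6]), (28, 19, [5, 8, 2, 8, 1, 0, 2]), (16, 22, [3, 6, 2, 0, 2, 1, 2, 6]), (9, 23, [4, 0, 1, 4, 2, 7])],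
    .prod [0, 4, 0, 8, 4, 8, 10, 4, 8, 0, 4, 0, 8, 10, 2, 8, 1, 2, 0, 8, 10, 9, 2, 8, 4, 8, 9, 6, 1, 2, 10, 8, 0, 2, 1, 8, 6, 10, 8, 3, 4, 10, 8, 4, 8, 2, 4, 10] [([0, 4, 0, 8, 4, 8, 10, 4, 8, 0, 4, 0, 8, 10, 2, 8, 1, 2, 0, 8, 10], 170, true), ([], 169, false)],
    .norm [4, 2, 8, 0, 2, 1, 9, 2, 8, 0, 10, 8, 4, 8, 0, 4, 0, 10, 8, 0, 2, 6, 4, 3, 8, 10, 6, 8, 1, 2, 0, 8, 10, 2, 1, 6, 9, 8, 4, 8, 2, 9] (some (4, 5, false, [4, 8, 6, 2, 6, 2, 8, 6, 2, 1])) [(32, 25, [0, 2, 9, 0, 2, 9, 0]), (25, 18, [3, 5, 0, 4, 2, 1, 0]), (17, 18, [1, 5, 0, 1, 2, 6, 0]), (10, 22, [3, 7, 2, 0, 6, 0])],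
    .prod [0, 4, 0, 8, 4, 8, 10, 4, 8, 0, 4, 0, 8, 10, 2, 8, 1, 2, 0, 8, 10, 4, 2, 8, 0, 2, 1, 9, 2, 8, 0, 10, 8, 4, 8, 0, 4, 0, 10, 8, 0, 2, 6, 10, 8, 4, 8, 2, 4, 10] [([0, 4, 0, 8, 4, 8, 10, 4, 8, 0, 4, 0, 8, 10, 2, 8, 1, 2, 0, 8, 10], 172, true), ([], 171, true)],
    .norm [4, 0, 8, 1, 8, 6, 8, 6, 4, 10, 8, 0, 4, 0, 8, 6, 4, 9, 0, 7, 6, 1, 10, 9, 0, 4, 0, 8, 4, 8, 10, 0, 8, 2, 9, 1, 2, 0, 8, 2, 4, 5, 4, 8, 1, 0, 8, 0, 4, 10, 9] (some (4, 1, true, [1, 2, 1, 8, 0, 4, 0, 8, 0])) [(49, 16, [0, 2, 4, 2, 1, 2, 0, 2]), (30, 35, [1, 0, 8, 2, 8, 1, 5]), (22, 18, [0, 4, 5, 2, 1, 2, 0]), (9, 24, [0, 2, 1, 6, 2, 5, 0, 1])],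
    .prod [0, 4, 0, 8, 4, 8, 10, 4, 8, 0, 4, 0, 8, 10, 8, 4, 2, 6, 8, 10, 4, 0, 8, 1, 8, 6, 8, 6, 4, 10, 8, 0, 4, 0, 8, 10, 8, 1, 2, 6, 10, 8, 4, 8, 2, 4, 10] [([0, 4, 0, 8, 4, 8, 10, 4, 8, 0, 4, 0, 8, 10, 8, 4, 2, 6, 8, 10], 174, true), ([], 107, false), ([], 173, true), ([], 110, false)],
    .norm [8, 6, 9, 8, 0, 2, 4, 1, 8, 10, 8, 4, 8, 2, 1, 0, 2, 8, 4, 8, 10, 3, 8, 3, 4, 8, 1, 2, 4, 8, 4, 0, 8, 1, 8, 6, 8, 6, 4, 10, 8, 0, 4, 0, 8] (some (0, 0, false, [2, 6, 8, 4, 8, 7, 6, 3])) [(39, 22, [0, 8, 2, 7, 8, 4]), (20, 25, [1, 0, 5, 2, 1, 5, 2, 0]), (9, 19, [5, 2, 4, 0, 8, 2, 8])],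
    .prod [10, 4, 2, 8, 4, 8, 10, 6, 2, 1, 8, 10, 8, 6, 9, 8, 0, 2, 4, 1, 8, 10, 8, 4, 8, 2, 1, 10, 8, 0, 4, 10, 8, 4, 8, 0, 4, 0] [([10, 4, 2, 8, 4, 8, 10, 6, 2, 1, 8, 10], 176, true), ([], 175, false), ([], 123, true)],
    .norm [5, 8, 2, 4, 8, 0, 10, 1, 8, 2, 3, 4, 9, 8, 0, 4, 5, 8, 2, 4, 8, 0, 10, 1, 8, 2, 3, 4, 9, 8, 0, 7, 4, 5, 8, 2, 4, 8, 0, 10, 1, 8, 2, 3, 4, 9, 8, 0, 4, 6, 8, 4, 5, 0, 1, 8, 4, 6, 10, 4, 6, 8, 2, 4, 8, 9, 0, 2, 10, 1, 8, 4, 6, 2, 1, 5, 8, 1, 5, 8, 2, 4, 8, 0, 10, 1, 8, 2, 3, 4, 9, 8, 0, 4, 5, 8, 2, 4, 8, 0, 10, 1, 8, 2, 3, 4, 9, 8, 0, 7, 4, 5, 8, 2, 4, 8, 0, 10, 1, 8, 2, 3, 4, 9, 8, 0, 4, 6, 8, 4, 5, 0, 1, 8, 4, 6, 10, 4, 6, 8, 2, 4, 8, 9, 0, 2, 10, 1, 8, 4, 6, 2, 1,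 5, 8, 1, 8, 4, 8, 10, 8, 6, 2, 6, 8, 0, 4, 9, 1, 10, 8, 4, 8, 2, 4, 6, 2, 1, 8, 10, 8, 6, 9, 8, 0, 2, 4, 1, 8, 10, 8, 4, 8, 2, 1, 10, 8, 0, 4, 8, 0, 4, 0, 8, 10, 4, 2, 4, 8, 6, 2, 6, 8, 7, 3, 10, 8, 4, 8, 2, 4, 8, 1, 2, 0, 8, 10, 2, 8, 4, 8, 2, 0, 2, 0, 1, 8, 1, 2, 4, 8, 0, 4, 1, 0, 10, 8, 0, 4, 0, 8, 4, 10, 8, 4, 8, 0] none [(146, 12, [0, 2, 3, 8, 9, 5, 2, 8]), (136, 26, [1, 4, 2, 0, 4, 6, 7]), (117, 34, [0, 5, 6, 9, 2, 9, 4]), (100, 32, [3, 4, 5, 8, 2, 8]), (84, 26, [5, 2, 6, 0, 7, 2, 0]), (68, 30, [0, 2, 1, 0, 4, 7, 2, 4]), (58, 27, [4, 5, 2, 0, 2, 1, 4]), (39, 35, [7, 0, 2, 1, 6, 0]), (22, 40, [0, 6, 2, 6, 7]), (6, 26, [2, 0, 8, 9, 2, 9, 8, 0])],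
    .prod [5, 8, 2, 4, 8, 0, 10, 1, 8, 2, 3, 4, 9, 8, 0, 4, 5, 8, 2, 4, 8, 0, 10, 1, 8, 2, 3, 4, 9, 8, 0, 7, 4, 5, 8, 2, 4, 8, 0, 10, 1, 8, 2, 3, 4, 9, 8, 0, 4, 6, 8, 4, 5, 0, 1, 8, 4, 6, 10, 4, 6, 8, 2, 4, 8, 9, 0, 2, 10, 1, 8, 4, 6, 2, 1, 5, 8, 1, 5, 8, 2, 4, 8, 0, 10, 1, 8, 2, 3, 4, 9, 8, 0, 4, 5, 8, 2, 4, 8, 0, 10, 1, 8, 2, 3, 4, 9, 8, 0, 7, 4, 5, 8, 2, 4, 8, 0, 10, 1, 8, 2, 3, 4, 9, 8, 0, 4, 6, 8, 4, 5, 0, 1, 8, 4, 6, 10, 4, 6, 8, 2, 4, 8, 9, 0, 2, 10, 1, 8, 4, 6, 2, 1, 5, 8, 1] [([], 178, true), ([], 142, false), ([], 144, true), ([], 150, false), ([], 177, false), ([], 162, false)],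
    .prod [0, 4, 8, 2, 4, 8, 10, 4, 9, 3, 1, 2, 1, 0, 10, 9, 10, 8, 4, 8, 0, 4, 0] [([0, 4, 8, 2, 4, 8, 10], 48, true)],
    .prod [8, 4, 3, 8, 10, 0, 2, 9, 1, 2, 0, 4, 10, 9, 10, 8, 4, 8] [([8, 4, 3, 8, 10], 3, true)],
    .prod [10, 8, 0, 4, 0, 8, 10, 1, 0, 9, 6, 8, 2, 8, 10, 9, 10, 8, 4, 8, 2, 10] [([10, 8, 0, 4, 0, 8, 10], 4, true)],
    .prod [10, 4, 8, 0, 4, 0, 8, 10, 1, 0, 9, 6, 8, 2, 8, 10, 9, 10, 8, 4, 8, 2, 4, 10] [([10, 4, 8, 0, 4, 0, 8, 10], 4, true)],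
    .prod [9, 10, 9, 8, 1, 0, 8, 9, 6, 1, 0, 10, 9, 10] [([9, 10], 114, true)],
    .prod [0, 4, 0, 8, 4, 8, 10, 8, 0, 4, 0, 8, 10, 8, 2, 6, 1, 9, 2, 1, 8, 5, 10, 8, 4, 8, 10, 8, 0, 4, 0, 8, 4, 10] [([0, 4, 0, 8, 4, 8, 10, 8, 0, 4, 0, 8, 10], 5, true)],
    .prod [0, 4, 0, 8, 4, 8, 10, 8, 0, 4, 0, 8, 10, 7, 0, 8, 9, 4, 2, 8, 4, 2, 8, 10, 8, 4, 8, 0, 4, 0, 10, 8, 0, 4, 0, 8, 10, 8, 4, 8] [([0, 4, 0, 8, 4, 8, 10, 8, 0, 4, 0, 8, 10], 6, true)],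
    .prod [0, 4, 0, 8, 4, 8, 10, 8, 0, 4, 0, 8, 10, 4, 9, 0, 6, 2, 4, 0, 10, 8, 0, 4, 0, 8, 4, 10, 8, 4, 8, 2, 10] [([0, 4, 0, 8, 4, 8, 10, 8, 0, 4, 0, 8, 10], 7, true), ([], 185, true)],
    .prod [0, 4, 0, 8, 4, 8, 10, 8, 0, 4, 0, 8, 10, 7, 6, 0, 8, 2, 4, 8, 2, 6, 10, 8, 4, 8, 2, 10, 8, 3, 4, 8] [([0, 4, 0, 8, 4, 8, 10, 8, 0, 4, 0, 8, 10], 8, true), ([], 186, true), ([], 181, false)],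
    .prod [0, 4, 0, 8, 4, 8, 10, 8, 0, 4, 0, 8, 10, 4, 2, 4, 8, 6, 2, 6, 8, 7, 3, 10, 8, 4, 8, 2, 4, 10, 9] [([0, 4, 0, 8, 4, 8, 10, 8, 0, 4, 0, 8, 10], 149, true), ([], 185, true), ([], 184, false)],
    .prod [8, 4, 8, 10, 4, 8, 0, 4, 0, 8, 10, 0, 1, 2, 1, 2, 6, 5, 9, 10, 8, 0, 4, 0, 8, 10, 8, 4, 8, 2, 10] [([8, 4, 8, 10, 4, 8, 0, 4, 0, 8, 10], 20, true), ([], 181, false), ([], 188, false), ([], 187, true)],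
    .prod [8, 4, 8, 10, 4, 8, 0, 4, 0, 8, 10, 8, 6, 8, 0, 8, 0, 7, 1, 10, 8, 4, 8, 10, 8, 0, 4, 0, 8, 4, 10, 8, 4, 8, 0, 4, 0] [([8, 4, 8, 10, 4, 8, 0, 4, 0, 8, 10], 72, true), ([], 190, true), ([], 187, false)],
    .prod [8, 4, 8, 10, 4, 8, 0, 4, 0, 8, 10, 2, 4, 8, 6, 1, 8, 2, 6, 8, 9, 0, 10, 8, 4, 8, 0, 4, 0, 10, 8, 0, 4, 0, 8, 4, 10] [([8, 4, 8, 10, 4, 8, 0, 4, 0, 8, 10], 21, true), ([], 190, true)],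
    .prod [8, 4, 8, 10, 4, 8, 0, 4, 0, 8, 10, 0, 4, 1, 0, 8, 4, 2, 1, 8, 0, 10, 8, 0, 4, 0, 8, 10, 8, 4, 2, 8, 4, 0] [([8, 4, 8, 10, 4, 8, 0, 4, 0, 8, 10], 75, true), ([], 191, true), ([], 180, false)],
    .prod [8, 4, 8, 10, 4, 8, 0, 4, 0, 8, 10, 8, 4, 2, 8, 5, 9, 4, 0, 10, 8, 0, 4, 0, 8, 10, 9] [([8, 4, 8, 10, 4, 8, 0, 4, 0, 8, 10], 154, true), ([], 190, true), ([], 184, false)],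
    .prod [9, 10, 2, 8, 4, 2, 8, 6, 3, 1, 2, 1, 10, 8, 3, 4, 8, 10, 8, 0, 4, 0, 8, 4, 10, 8, 4, 8, 0, 4, 0] [([9, 10], 156, true), ([], 194, false), ([], 191, true)],
    .prod [9, 10, 4, 2, 4, 8, 4, 0, 1, 2, 8, 0, 10, 8, 4, 2, 8, 4, 0, 10, 8, 0, 4, 0, 8, 10, 8, 4, 8] [([9, 10], 158, true), ([], 189, false), ([], 186, true)],
    .prod [8, 4, 3, 8, 10, 4, 8, 6, 8, 1, 2, 6, 8, 2, 0, 10, 8, 4, 2, 8, 4, 0, 10, 8, 0, 4, 0, 8, 10] [([8, 4, 3, 8, 10], 49, true), ([], 188, false), ([], 187, true), ([], 182, false)],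
    .prod [8, 4, 3, 8, 10, 6, 8, 1, 8, 9, 4, 2, 4, 8, 1, 10, 8, 4, 2, 8, 4, 0, 10, 8, 0, 4, 0, 8, 4, 10, 8, 4, 8, 0, 4, 0] [([8, 4, 3, 8, 10], 50, true), ([], 188, false)],
    .prod [8, 4, 8, 10, 8, 6, 2, 6, 8, 0, 4, 9, 1, 10, 8, 4, 8, 2, 4, 10, 8, 4, 8, 2, 4, 10] [([8, 4, 8, 10], 22, true), ([], 192, true), ([], 183, true)]]

/-- Records. -/
def localRecs4 : List Rec :=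
  [.prod [10, 8, 0, 4, 0, 8, 10, 6, 2, 8, 7, 6, 4, 0, 8, 4, 8, 1, 10, 8, 4, 8, 0, 4, 0, 10, 8, 0, 4, 0, 8, 4, 10, 8, 4, 8, 0, 4, 0] [([10, 8, 0, 4, 0, 8, 10], 51, true), ([], 197, false), ([], 198, true)],
    .prod [10, 8, 0, 4, 0, 8, 10, 8, 4, 1, 0, 9, 8, 7, 1, 0, 10, 8, 4, 8, 10, 8, 0, 4, 0, 8, 10, 8, 4, 8] [([10, 8, 0, 4, 0, 8, 10], 164, true), ([], 200, true), ([], 195, false), ([], 196, true)],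
    .prod [10, 8, 0, 4, 0, 8, 10, 8, 1, 8, 6, 8, 4, 2, 7, 4, 10, 8, 4, 8, 2, 4, 10, 8, 4, 2, 8, 4, 0] [([10, 8, 0, 4, 0, 8, 10], 52, true), ([], 200, true), ([], 180, false)],
    .prod [8, 4, 8, 10, 8, 0, 4, 0, 8, 10, 6, 2, 4, 9, 2, 6, 10, 8, 0, 4, 0, 8, 4, 10, 8, 4, 8, 2, 4, 10] [([8, 4, 8, 10, 8, 0, 4, 0, 8, 10], 166, true), ([], 199, true)],
    .norm [6, 8, 4, 5, 0, 1, 8, 4, 6, 10, 4, 6, 8, 2, 4, 8, 9, 0, 2, 10, 1, 8, 4, 6, 2, 1, 5, 8, 1, 9, 6, 8, 4, 5, 0, 1, 8, 4, 6, 10, 4, 6, 8, 2, 4, 8, 9, 0, 2, 10, 1, 8, 4, 6, 2, 1, 5, 8, 1, 9, 6, 8, 4, 5, 0, 1, 8, 4, 6, 10, 4, 6, 8, 2, 4, 8, 9, 0, 2, 10, 1, 8, 4, 6, 2, 1, 5, 8, 1, 9, 6, 8, 4, 5, 0, 1, 8, 4, 6, 10, 4, 6, 8, 2, 4, 8, 9, 0, 2, 10, 1, 8,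 4, 6, 2, 1, 5, 8, 1, 9, 6, 8, 4, 5, 0, 1, 8, 4, 6, 10, 4, 6, 8, 2, 4, 8, 9, 0, 2, 10, 1, 8, 4, 6, 2, 1, 5, 8, 1, 9, 8, 4, 3, 8, 10, 2, 8, 4, 8, 10, 6, 2, 8, 4, 2, 8, 0, 6, 7, 8, 2, 6, 1, 9, 2, 1, 8, 5, 10, 8, 4, 8, 0, 4, 0, 8, 4, 8, 10, 0, 9, 8, 6, 2, 8, 1, 6, 8, 4, 2, 0, 4, 1, 0, 8, 4, 2, 1, 8, 0, 10, 8, 0, 4, 0, 8, 4, 2, 8, 4, 8, 10, 4, 7, 2, 4, 8, 6, 8, 1, 4, 1, 0, 9, 8, 7, 1, 0, 10, 8, 4, 8, 6, 2, 4, 9, 2, 6, 10, 8, 0, 4, 0, 8, 2, 8, 4, 8, 10, 1, 9, 4, 0, 8, 6, 2, 6, 8, 10, 8, 4, 8] none [(139, 14, [0, 5, 6, 2, 7, 8, 2, 8]), (129, 21, [6, 9, 8, 0, 1, 7, 8]), (109, 44, [5, 2, 4, 6, 0, 1]), (99, 24, [0, 7, 2, 4, 0, 8, 2, 8]), (79, 48, [4, 0, 1, 4, 5, 2, 7]), (69, 26, [0, 3, 6, 2, 5, 0, 6]),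 (49, 42, [1, 5, 0, 8, 1, 0, 3, 8]), (39, 26, [8, 9, 2, 9, 8, 6, 1]), (19, 35, [2, 0, 2, 7, 0, 6, 1, 6]), (9, 26, [2, 1, 3, 4, 2, 4, 6])],
    .prod [6, 8, 4, 5, 0, 1, 8, 4, 6, 10, 4, 6, 8, 2, 4, 8, 9, 0, 2, 10, 1, 8, 4, 6, 2, 1, 5, 8, 1, 9, 6, 8, 4, 5, 0, 1, 8, 4, 6, 10, 4, 6, 8, 2, 4, 8, 9, 0, 2, 10, 1, 8, 4, 6, 2, 1, 5, 8, 1, 9, 6, 8, 4, 5, 0, 1, 8, 4, 6, 10, 4, 6, 8, 2, 4, 8, 9, 0, 2, 10, 1, 8, 4, 6, 2, 1, 5, 8, 1, 9, 6, 8, 4, 5, 0, 1, 8, 4, 6, 10, 4, 6, 8, 2, 4, 8, 9, 0, 2, 10, 1, 8, 4, 6, 2, 1, 5, 8, 1, 9, 6, 8, 4, 5, 0, 1, 8, 4, 6, 10, 4, 6, 8, 2, 4, 8, 9, 0, 2, 10, 1, 8, 4, 6, 2, 1, 5, 8, 1, 9] [([], 204, true), ([], 199, true), ([], 203, false), ([], 201, false), ([], 202, true), ([],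 193, false), ([], 192, true), ([], 185, false), ([], 188, true)],
    .prod [8, 4, 3, 8, 10, 0, 2, 9, 1, 2, 0, 4, 10, 9, 10, 8, 4, 8] [([8, 4, 3, 8, 10], 3, true)],
    .prod [10, 4, 8, 0, 4, 0, 8, 10, 1, 0, 9, 6, 8, 2, 8, 10, 9, 10, 8, 4, 8, 2, 4, 10] [([10, 4, 8, 0, 4, 0, 8, 10], 4, true)],
    .prod [0, 4, 0, 8, 4, 8, 10, 8, 0, 4, 0, 8, 10, 8, 2, 6, 1, 9, 2, 1, 8, 5, 10, 8, 4, 8, 10, 8, 0, 4, 0, 8, 4, 10] [([0, 4, 0, 8, 4, 8, 10, 8, 0, 4, 0, 8, 10], 5, true)],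
    .prod [0, 4, 0, 8, 4, 8, 10, 8, 0, 4, 0, 8, 10, 7, 0, 8, 9, 4, 2, 8, 4, 2, 8, 10, 8, 4, 8, 0, 4, 0, 10, 8, 0, 4, 0, 8, 10, 8, 4, 8] [([0, 4, 0, 8, 4, 8, 10, 8, 0, 4, 0, 8, 10], 6, true)],
    .prod [0, 4, 0, 8, 4, 8, 10, 8, 0, 4, 0, 8, 10, 4, 9, 0, 6, 2, 4, 0, 10, 8, 0, 4, 0, 8, 4, 10, 8, 4, 8, 2, 10] [([0, 4, 0, 8, 4, 8, 10, 8, 0, 4, 0, 8, 10], 7, true), ([], 208, true)],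
    .prod [0, 4, 0, 8, 4, 8, 10, 8, 0, 4, 0, 8, 10, 7, 6, 0, 8, 2, 4, 8, 2, 6, 10, 8, 4, 8, 2, 10, 8, 3, 4, 8] [([0, 4, 0, 8, 4, 8, 10, 8, 0, 4, 0, 8, 10], 8, true), ([], 209, true), ([], 206, false)],
    .prod [8, 4, 8, 10, 4, 8, 0, 4, 0, 8, 10, 0, 1, 2, 1, 2, 6, 5, 9, 10, 8, 0, 4, 0, 8, 10, 8, 4, 8, 2, 10] [([8, 4, 8, 10, 4, 8, 0, 4, 0, 8, 10], 20, true), ([], 206, false), ([], 211, false), ([], 210, true)],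
    .prod [8, 4, 8, 10, 4, 8, 0, 4, 0, 8, 10, 2, 4, 8, 6, 1, 8, 2, 6, 8, 9, 0, 10, 8, 4, 8, 0, 4, 0, 10, 8, 0, 4, 0, 8, 4, 10] [([8, 4, 8, 10, 4, 8, 0, 4, 0, 8, 10], 21, true), ([], 212, true)],
    .prod [8, 4, 8, 10, 8, 6, 2, 6, 8, 0, 4, 9, 1, 10, 8, 4, 8, 2, 4, 10, 8, 4, 8, 2, 4, 10] [([8, 4, 8, 10], 22, true), ([], 213, true), ([], 207, true)],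
    .norm [8, 2, 4, 2, 8, 1, 2, 4, 8, 0, 10, 8, 4, 8, 2, 8, 0, 4, 0, 8, 10, 4, 9, 0, 6, 2, 4, 0, 10, 8, 0, 4, 0, 8, 4] (some (0, 0, false, [8, 4, 8, 2, 4, 8, 4, 0, 2, 1])) [(28, 25, [2, 8, 2, 8, 9, 1, 4, 9]), (20, 16, [0, 1, 4, 6, 7, 0, 4]), (10, 17, [4, 9, 6, 9, 0, 7])],
    .prod [10, 2, 8, 4, 8, 10, 8, 2, 4, 2, 8, 1, 2, 4, 8, 0, 10, 8, 4, 8, 2, 10, 8, 4, 8, 0, 4, 0] [([10, 2, 8, 4, 8, 10], 215, true), ([], 210, false)],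
    .norm [6, 8, 4, 5, 0, 1, 8, 4, 6, 10, 4, 6, 8, 2, 4, 8, 9, 0, 2, 10, 1, 8, 4, 6, 2, 1, 5, 8, 1, 0, 4, 0, 6, 8, 4, 5, 0, 1, 8, 4, 6, 10, 4, 6, 8, 2, 4, 8, 9, 0, 2, 10, 1, 8, 4, 6, 2, 1, 5, 8, 1, 0, 4, 0, 6, 8, 4, 5, 0, 1, 8, 4, 6, 10, 4, 6, 8, 2, 4, 8, 9, 0, 2, 10, 1, 8, 4, 6, 2, 1, 5, 8, 1, 8, 4, 8, 10, 2, 8, 4, 8, 10, 0, 8, 4, 2, 1, 8, 2, 4, 2, 8, 10, 8, 4, 8, 2, 4, 2, 8, 4, 8, 10, 4, 2, 8, 4, 8, 10, 1, 9, 4, 0, 8, 6, 2, 6, 8, 10, 8, 4, 8] none [(83, 12, [0, 2, 3, 8, 9, 5, 2, 8]), (73, 21, [2, 5, 9, 6, 0, 9]), (51, 37, [0, 2, 4, 6, 0, 2, 1, 0]), (41, 26, [9, 1, 9, 6, 2, 0, 2]), (19, 33, [2, 0, 2, 7, 0, 6, 1, 6]), (9, 26, [2, 1, 3, 4, 2, 4, 6])],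
    .prod [6, 8, 4, 5, 0, 1, 8, 4, 6, 10, 4, 6, 8, 2, 4, 8, 9, 0, 2, 10, 1, 8, 4, 6, 2, 1, 5, 8, 1, 0, 4, 0, 6, 8, 4, 5, 0, 1, 8, 4, 6, 10, 4, 6, 8, 2, 4, 8, 9, 0, 2, 10, 1, 8, 4, 6, 2, 1, 5, 8, 1, 0, 4, 0, 6, 8, 4, 5, 0, 1, 8, 4, 6, 10, 4, 6, 8, 2, 4, 8, 9, 0, 2, 10, 1, 8, 4, 6, 2, 1, 5, 8, 1, 0, 4, 0] [([], 217, true), ([], 214, true), ([], 216, true)]]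

/-- The records. -/
def localRecs : List Rec :=
  localRecs0 ++ localRecs1 ++ localRecs2 ++ localRecs3 ++ localRecs4

/-- The positions of the relations. -/
def localAt : List Nat :=
  [0, 1, 0, 2, 0, 0, 23, 35, 36, 37, 38, 39, 40, 43, 44, 47, 53, 54, 55, 56, 57, 58, 91, 92, 93, 94, 95, 96, 103, 179, 205, 218]

end Cfsg.Lib.Extra.SuzUnique.RelData
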