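import Cfsg.Agent.Lib.CosetEnum.Defs

/-! Generated certificate. -/

set_option autoImplicit false
set_option maxRecDepth 20000

namespace Cfsg.Lib.Extra.SuzUnique.RelData

open Cfsg.Lib.CosetEnum

/-- Table data. -/
def orb1_0_0 : Tab :=
  (.leaf 0x6d30000d00000100004940000c00000100000a80000ac0000200003560000980000100002620000840000200001800000800000000001890000700000200006480000700000000000d600006c00002000017000006c0000000001990000680000100005410000640000000001a300005c00002000036100005800002000017f00005800001000023b00005400002000035100005400000000057800005000002000021c00005000000000050300004800001000064a0000440000200001bf0000440000000005250000400000200005a000004000000000018300003c0000100001260000380000200000970000380000000002080000340000100001ef00003000002000017c0000300000100004a30000300000000004e200002c00002000010d00002c0000100006940000280000200006c700002800001000020c00002800000000024c00002400002000049800002400000000059400002000001000018d00001c0000200005d900001c00001000009300001c00000000055b0000180000200002320000180000100003ba0000140000200001fe00001400001000034000001400000000027c00001000002000067f0000100000000000e200000c00002000067600000c00001000017300000c00000000040d0000080000200001ba0000080000000001b90000040000200003cd00000400001000028d0000000000200000ac0000000000100001d700000000000000003600000000000)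

/-- Table data. -/
def orb1_0 : Tab :=
  orb1_0_0

end Cfsg.Lib.Extra.SuzUnique.RelData
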