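import Cfsg.Agent.Lib.Extra.SuzUnique.RelData.Orb00
import Cfsg.Agent.Lib.Extra.SuzUnique.RelData.Pos00
import Cfsg.Agent.Lib.Extra.SuzUnique.RelData.Orb10
import Cfsg.Agent.Lib.Extra.SuzUnique.RelData.Pos10

/-! Generated certificate. -/

set_option autoImplicit false
set_option maxRecDepth 20000

namespace Cfsg.Lib.Extra.SuzUnique.RelData

open Cfsg.Lib.CosetEnum

/-- Table. -/
def orb0 : Tab :=
  orb0_0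

/-- Table. -/
def pos0 : Tab :=
  pos0_0

/-- A level of the base of two points. -/
def level0 : BaseLevel :=
  ⟨orb0, pos0, 1024,
    [[0],
    [1],
    [2],
    [3],
    [4],
    [5],
    [6],
    [7],
    [5, 0, 5],
    [2, 3, 1, 2],
    [0, 6, 2, 7, 6]]⟩

/-- Table. -/
def orb1 : Tab :=
  orb1_0

/-- Table. -/
def pos1 : Tab :=
  pos1_0

/-- A level of the base of two points. -/
def level1 : BaseLevel :=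
  ⟨orb1, pos1, 60,
    [[5, 0, 5],
    [2, 3, 1, 2],
    [0, 6, 2, 7, 6]]⟩

/-- The base of two points of the eight letters. -/
def levels : List BaseLevel :=
  [level0, level1]

/-- Generators of the centralizer of the sixteen involutions. -/
def tGens : List (List Nat) :=
  [[2, 0, 8, 2, 8, 6],
    [0, 8, 1, 0, 9, 8, 6, 2],
    [1, 2, 9, 4, 2, 9, 0],
    [2, 8, 2, 5, 8, 9, 6],
    [3, 5, 7],
    [3]]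

/-- A product of generators fixing the first point. -/
def stabProd : List (Nat × Bool) :=
  [(0, true), (2, true), (0, false), (0, false)]

/-- A product of generators moving the first point to the second. -/
def moveProd : List (Nat × Bool) :=
  [(3, true), (3, true), (2, true)]

/-- The sixteen elements. -/
def eWords : List (List Nat) :=
  [[],
    [3],
    [5, 7],
    [3, 5, 7],
    [0, 2, 4, 2, 0],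
    [0, 2, 5, 2, 0],
    [0, 2, 7, 2, 0],
    [1, 2, 4, 2, 1],
    [1, 2, 5, 2, 1],
    [1, 2, 7, 2, 1],
    [0, 2, 4, 5, 2, 0],
    [0, 2, 4, 7, 2, 0],
    [0, 2, 3, 4, 5, 2, 0],
    [0, 2, 3, 4, 7, 2, 0],
    [0, 2, 4, 2, 0, 5, 7],
    [0, 5, 2, 4, 2, 7, 0]]

/-- The orbit of the first point under the eight letters, as a set. -/
def orbMask : Nat :=
  0x613c7cecff9e7e87e3ce0490c3ccf765f4be7499af503e73a467d80ff3effebe7f5fdfc81007c85fc30bf0f7c7f285c4ff989ffb20fe27fffcff3cc639fbc77fb03cfc0604f999027f3f81ffff180386486a00c8c0016360fbdcf200673cda4bc1ffb00f6fff2c6ffc5980666619fcd72fe7ff6f8c73c6dbf98e7f635dc0064cc0064f07d8c307d8d83cc64db327180ffcc603ff19ffccc67ff37ffb3fd9cfffb189ffb18cf1bf7fff0f3f12e7cdf04d00303f7fe4c1bfbe65f9fd86fcf6847fffffe9fc7fff39ffff60fffbec140f83e0732e6b33f9cfc89e0e004c0000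

/-- A base relation. -/
def pentA : List Nat :=
  [10, 2, 4, 8, 4, 0, 4, 9, 3, 8, 2, 10, 2, 4, 8, 4, 0, 4, 9, 3, 8, 2, 10, 2, 4, 8, 4, 0, 4, 9, 3, 8, 2, 10, 2, 4, 8, 4, 0, 4, 9, 3, 8, 2, 10, 2, 4, 8, 4, 0, 4, 9, 3, 8, 2]

/-- Hints for the action on the generators. -/
def pentAFix : List (List (List Nat)) :=
  [[[0, 2, 0, 4, 9, 1, 2, 9],
    [0, 1, 0, 3, 8, 2, 8, 1],
    [5, 6, 2, 8, 2, 8, 6],
    [0, 2, 5, 0, 1, 4, 5, 2],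
    [0, 1, 0, 8, 2, 8, 1]],
    [[1, 5, 2, 1, 2, 1, 6],
    [1, 2, 6, 9, 1, 9, 2, 1],
    [0, 2, 0, 1, 2, 4, 0, 1],
    [2, 4, 0, 2, 4],
    [6, 0, 5, 2, 1, 2, 0]],
    [[1, 8, 2, 8, 0, 7],
    [0, 8, 5, 0, 1, 8, 2, 0],
    [1, 6, 8, 1, 0, 8, 9, 2],
    [0, 4, 8, 9, 1, 0, 2, 8],
    [2, 0, 2, 1, 3, 5, 0]],
    [[2, 0, 9, 8, 5, 2, 8],
    [1, 8, 9, 2, 3, 7, 8, 0],
    [2, 1, 0, 5, 2, 1, 4],
    [1, 2, 1, 4, 6, 2, 0, 7],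
    [1, 0, 2, 4, 0, 7, 2, 4]],
    [[3],
    [0, 2, 4, 7, 2, 0],
    [0, 2, 4, 2, 0],
    [0, 2, 5, 2, 0],
    [3, 5, 7]],
    [[3, 5, 7],
    [3],
    [0, 2, 4, 7, 2, 0],
    [0, 2, 4, 2, 0],
    [0, 2, 5, 2, 0]]]

/-- A base relation. -/
def pentB : List Nat :=
  [10, 4, 0, 2, 8, 4, 8, 6, 2, 4, 0, 10, 4, 0, 2, 8, 4, 8, 6, 2, 4, 0, 10, 4, 0, 2, 8, 4, 8, 6, 2, 4, 0, 10, 4, 0, 2, 8, 4, 8, 6, 2, 4, 0, 10, 4, 0, 2, 8, 4, 8, 6, 2, 4, 0]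

/-- Hints for the action on the generators. -/
def pentBFix : List (List (List Nat)) :=
  [[[0, 2, 0, 4, 9, 1, 2, 9],
    [3, 6, 1, 9, 0, 6, 9],
    [1, 6, 0, 4, 2, 0, 2, 6],
    [1, 2, 1, 5, 2, 5, 0],
    [7, 8, 9, 0, 1, 8, 6]],
    [[1, 5, 2, 1, 2, 1, 6],
    [2, 5, 6, 2, 4],
    [2, 4, 0, 5, 6, 0, 2],
    [1, 0, 6, 8, 1, 0, 8, 9],
    [0, 2, 0, 1, 2, 4, 0, 1]],
    [[1, 8, 2, 8, 0, 7],
    [1, 4, 6, 9, 0, 9],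
    [1, 2, 1, 2, 9, 0, 9],
    [1, 4, 6, 7, 2, 1, 2, 0],
    [1, 2, 3, 7, 2, 0, 6]],
    [[2, 0, 9, 8, 5, 2, 8],
    [1, 0, 2, 9, 0, 2, 9],
    [1, 4, 0, 5, 2, 4, 2],
    [0, 2, 0, 1, 7, 2, 4],
    [1, 2, 1, 2, 7, 0]],
    [[3],
    [0, 2, 4, 7, 2, 0],
    [1, 2, 4, 2, 1],
    [1, 2, 7, 2, 1],
    [3, 5, 7]],
    [[3, 5, 7],
    [3],
    [0, 2, 4, 7, 2, 0],
    [1, 2, 4, 2, 1],
    [1, 2, 7, 2, 1]]]

/-- A base relation. -/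
def quad : List Nat :=
  [1, 2, 8, 4, 8, 10, 2, 6, 5, 1, 8, 4, 1, 0, 8, 10, 8, 4, 8, 2, 10, 8, 4, 8, 2, 1, 10, 9]

/-- Hints for the action on the generators. -/
def quadFix : List (List (List Nat)) :=
  [[[0, 4, 2, 0, 2, 1, 4, 5],
    [0, 5, 8, 2, 5, 8, 9],
    [0, 4, 0, 2, 1, 2, 1, 0],
    [3, 9, 8, 0, 1, 8]],
    [[2, 1, 2, 3, 4, 6],
    [0, 4, 2, 4, 6, 0, 6],
    [2, 8, 2, 8, 2, 6],
    [3, 4, 2, 1, 2, 1, 4, 2]],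
    [[5, 2, 0, 8, 2, 7, 8, 2],
    [1, 0, 9, 8, 9, 2, 8],
    [0, 2, 1, 2, 6, 0, 6, 2],
    [1, 2, 3, 4, 2, 0, 5]],
    [[0, 6, 1, 2, 1, 4, 5, 2],
    [0, 4, 2, 1, 5, 2, 0, 2],
    [4, 9, 6, 0, 8, 5, 2, 8],
    [2, 1, 2, 4, 0, 2, 1]],
    [[3],
    [4, 5],
    [5],
    [3, 5, 7]],
    [[2, 3, 4, 7, 2],
    [4],
    [3, 7],
    [5, 7]]]

/-- The element of order five. -/
def pentAX : List Nat :=
  [10, 2, 4, 8, 4, 0, 4, 9, 3, 8, 2]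

/-- Its action on the fifteen involutions, and a point that differs. -/
def pentAMove : List (List (List Nat) × List Nat × Nat) :=
  [([[3, 5, 7]], [3, 5, 7], 2),
    ([[5, 7]], [0, 2, 7, 2, 0], 0),
    ([[3]], [1, 2, 7, 2, 1], 0),
    ([[0, 2, 4, 2, 0, 5, 7]], [0, 5, 2, 4, 2, 7, 0], 2),
    ([[0, 2, 3, 4, 5, 2, 0]], [1, 2, 4, 2, 1], 0),
    ([[0, 2, 3, 4, 7, 2, 0]], [0, 2, 3, 4, 7, 2, 0], 0),
    ([[1, 2, 4, 2, 1]], [0, 2, 4, 2, 0], 2),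
    ([[0, 2, 4, 5, 2, 0]], [0, 2, 4, 5, 2, 0], 0),
    ([[0, 2, 4, 7, 2, 0]], [0, 2, 4, 2, 0, 5, 7], 0),
    ([[1, 2, 5, 2, 1]], [5, 7], 0),
    ([[1, 2, 7, 2, 1]], [0, 2, 5, 2, 0], 0),
    ([[0, 2, 5, 2, 0]], [3], 0),
    ([[0, 2, 7, 2, 0]], [1, 2, 5, 2, 1], 0),
    ([[0, 2, 4, 2, 0]], [0, 2, 3, 4, 5, 2, 0], 0),
    ([[0, 5, 2, 4, 2, 7, 0]], [0, 2, 4, 7, 2, 0], 0)]

/-- The element of order five. -/
def pentBX : List Nat :=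
  [10, 4, 0, 2, 8, 4, 8, 6, 2, 4, 0]

/-- Its action on the fifteen involutions, and a point that differs. -/
def pentBMove : List (List (List Nat) × List Nat × Nat) :=
  [([[3, 5, 7]], [3, 5, 7], 2),
    ([[5, 7]], [0, 2, 7, 2, 0], 0),
    ([[3]], [1, 2, 7, 2, 1], 0),
    ([[0, 2, 4, 2, 0, 5, 7]], [0, 2, 3, 4, 5, 2, 0], 0),
    ([[0, 2, 3, 4, 5, 2, 0]], [0, 2, 4, 2, 0, 5, 7], 0),
    ([[0, 2, 3, 4, 7, 2, 0]], [0, 2, 4, 5, 2, 0], 0),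
    ([[1, 2, 4, 2, 1]], [0, 2, 4, 7, 2, 0], 0),
    ([[0, 2, 4, 5, 2, 0]], [0, 2, 3, 4, 7, 2, 0], 0),
    ([[0, 2, 4, 7, 2, 0]], [1, 2, 4, 2, 1], 0),
    ([[1, 2, 5, 2, 1]], [1, 2, 5, 2, 1], 0),
    ([[1, 2, 7, 2, 1]], [3], 0),
    ([[0, 2, 5, 2, 0]], [0, 2, 5, 2, 0], 0),
    ([[0, 2, 7, 2, 0]], [5, 7], 0),
    ([[0, 2, 4, 2, 0]], [0, 5, 2, 4, 2, 7, 0], 2),
    ([[0, 5, 2, 4, 2, 7, 0]], [0, 2, 4, 2, 0], 2)]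

/-- The line relation. -/
def line : List Nat :=
  [10, 9, 10, 9, 10, 9, 8, 1, 0, 8, 9, 6, 1, 0]

/-- The relation of the triangle. -/
def hexagon : List Nat :=
  [4, 5, 8, 2, 4, 8, 0, 10, 1, 8, 2, 3, 4, 9, 8, 0, 4, 6, 8, 4, 5, 0, 1, 8, 4, 6, 10, 4, 6, 8, 2, 4, 8, 9, 0, 2, 10, 1, 8, 4, 6, 2, 1, 5, 8, 1, 4, 5, 8, 2, 4, 8, 0, 10, 1, 8, 2, 3, 4, 9, 8, 0, 4, 6, 8, 4, 5, 0, 1, 8, 4, 6, 10, 4, 6, 8, 2, 4, 8, 9, 0, 2, 10, 1, 8, 4, 6, 2, 1, 5, 8, 1, 4, 5, 8, 2, 4, 8, 0, 10, 1, 8, 2, 3, 4, 9, 8, 0, 4, 6, 8, 4, 5, 0, 1, 8, 4, 6, 10, 4, 6, 8, 2, 4, 8, 9, 0, 2, 10, 1, 8, 4, 6, 2, 1, 5, 8, 1]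

end Cfsg.Lib.Extra.SuzUnique.RelData
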