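import Cfsg.Agent.Lib.Extra.SuzUnique.Rewrite

/-! Generated certificate. -/

set_option autoImplicit false
set_option maxRecDepth 20000

namespace Cfsg.Lib.Extra.SuzUnique.RelData

open Cfsg.Lib.Extra.SuzUnique

/-- Records. -/
def commuteRecs0 : List Rec :=
  [.norm [4, 5, 8, 2, 4, 8, 0, 10, 1, 8, 2, 3, 4, 9, 8, 0, 5, 8, 2, 4, 8, 0, 10, 1, 8, 2, 3, 4, 9, 8, 0, 4] none [(7, 14, [6, 0, 2, 1, 2, 0, 6])],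
    .norm [0, 2, 9, 1, 2, 0, 4, 10, 9, 10, 8, 3, 8, 10] (some (0, 0, false, [1, 2, 4, 2, 6, 9, 0])) [(13, 14, [3, 4, 2, 8, 2, 8, 6]), (9, 11, [2, 5, 6, 0, 7, 8, 2, 8]), (7, 10, [0, 9, 2, 0, 1, 6, 2, 9])],
    .norm [5, 4, 8, 1, 0, 8, 0, 4, 10, 9, 10, 8, 0, 2, 1, 8, 2, 8, 4, 2, 6, 8, 10] (some (0, 0, false, [1, 2, 4, 2, 6, 9, 0])) [(22, 14, [3, 4, 2, 8, 2, 8, 6]), (10, 19, [9, 2, 6, 7, 9, 0]), (8, 8, [1, 4, 6, 2, 0, 2, 7])],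
    .prod [0, 8, 4, 8, 10, 6, 2, 1, 8, 10, 2, 4, 8, 10, 0, 8, 1, 8, 10, 8, 10, 8, 4, 2, 6, 8, 10, 5, 4, 8, 1, 0, 8, 0, 4, 10, 9, 10, 8, 0, 2, 1, 8, 2, 10, 8, 10, 8, 1, 8, 0, 10, 8, 4, 2, 10, 8, 1, 2, 6, 10, 8, 4, 8, 0] [([0, 8, 4, 8, 10, 6, 2, 1, 8, 10, 2, 4, 8, 10, 0, 8, 1, 8, 10, 8, 10, 8, 4, 2, 6, 8, 10], 2, true)],
    .norm [4, 0, 8, 9, 4, 8, 2, 1, 0, 10, 8, 4, 8, 2, 10, 8, 0, 2, 1, 8, 2, 10, 8, 1, 2, 8, 4, 8, 10] (some (4, 5, false, [4, 2, 0, 8, 4, 3, 8, 3, 1])) [(28, 15, [9, 0, 5, 9, 2, 4]), (21, 17, [0, 2, 1, 3, 6, 2, 6]), (14, 17, [0, 2, 1, 7, 2, 4, 2, 0, 2]), (9, 22, [6, 1, 2, 1, 2, 5, 0, 5])],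
    .prod [0, 8, 4, 8, 10, 6, 2, 1, 8, 10, 2, 4, 8, 10, 0, 8, 1, 8, 10, 1, 2, 8, 4, 8, 10, 4, 0, 8, 9, 4, 8, 2, 1, 0, 10, 8, 4, 8, 2, 10, 8, 0, 2, 1, 8, 2, 10, 8, 10, 8, 1, 8, 0, 10, 8, 4, 2, 10, 8, 1, 2, 6, 10, 8, 4, 8, 0] [([0, 8, 4, 8, 10, 6, 2, 1, 8, 10, 2, 4, 8, 10, 0, 8, 1, 8, 10, 1, 2, 8, 4, 8, 10], 4, true)],
    .norm [6, 1, 6, 8, 1, 8, 2, 1, 8, 10, 8, 0, 4, 0, 8, 10, 8, 4, 8, 0, 4, 0, 8, 9, 4, 8, 2, 1, 0, 10, 8, 4, 8, 2, 9, 10, 4, 0, 8, 0, 1, 8, 4, 5] (some (4, 5, false, [4, 8, 2, 8, 6, 8, 4, 8, 7, 1])) [(35, 24, [2, 5, 0, 1, 4, 2]), (29, 16, [0, 2, 1, 2, 0, 7, 2]), (15, 24, [2, 1, 0, 8, 2, 8, 6, 2]), (9, 22, [1, 2, 1, 9, 6, 0, 2, 9])],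
    .prod [0, 8, 4, 8, 10, 6, 2, 1, 8, 10, 2, 4, 8, 10, 0, 8, 1, 8, 10, 8, 10, 8, 4, 2, 6, 8, 10, 6, 1, 6, 8, 1, 8, 2, 1, 8, 10, 8, 0, 4, 0, 8, 10, 8, 4, 8, 0, 10, 8, 4, 8, 2, 1, 10, 8, 1, 8, 0, 10, 8, 4, 2, 10, 8, 1, 2, 6, 10, 8, 4, 8, 0] [([0, 8, 4, 8, 10, 6, 2, 1, 8, 10, 2, 4, 8, 10, 0, 8, 1, 8, 10, 8, 10, 8, 4, 2, 6, 8, 10], 6, true), ([], 3, true), ([], 5, false)],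
    .norm [4, 0, 1, 8, 0, 4, 1, 8, 10, 9, 8, 0, 4, 0, 8, 10, 8, 1, 2, 8, 1, 8, 6, 1, 6, 10, 8, 6, 2, 4, 8, 0, 2, 8, 4, 8, 10] (some (4, 5, false, [7, 1, 0, 6, 2, 8, 5, 4, 8])) [(36, 11, [0, 1, 2, 6, 1, 7, 0]), (25, 22, [0, 4, 6, 7, 2, 0, 1, 6]), (15, 21, [0, 2, 8, 5, 2, 9, 8, 1]), (8, 23, [0, 5, 6, 7, 0, 1])],
    .prod [0, 8, 4, 8, 10, 6, 2, 1, 8, 10, 2, 4, 8, 10, 0, 8, 1, 8, 10, 8, 10, 0, 2, 8, 4, 8, 10, 4, 0, 1, 8, 0, 4, 1, 8, 10, 9, 10, 8, 4, 8, 0, 10, 8, 4, 8, 2, 1, 10, 8, 1, 8, 0, 10, 8, 4, 2, 10, 8, 1, 2, 6, 10, 8, 4, 8, 0] [([0, 8, 4, 8, 10, 6, 2, 1, 8, 10, 2, 4, 8, 10, 0, 8, 1, 8, 10, 8, 10, 0, 2, 8, 4, 8, 10], 8, true), ([], 7, true)],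
    .norm [0, 2, 8, 4, 9, 2, 1, 8, 0, 2, 10, 8, 4, 2, 8, 0, 8, 4, 8, 10, 9, 10, 8, 1, 4, 0, 8, 1, 0, 4] (some (0, 0, false, [8, 4, 8, 2, 4, 8, 4, 0, 2, 1])) [(21, 27, [0, 5, 6, 1, 7, 0, 6]), (19, 9, [1, 6, 2, 6, 1]), (10, 14, [9, 5, 2, 1, 9, 2, 0])],
    .prod [0, 8, 4, 8, 10, 6, 2, 1, 8, 10, 2, 4, 8, 10, 0, 8, 1, 8, 10, 8, 10, 0, 2, 8, 4, 8, 10, 0, 2, 8, 4, 9, 2, 1, 8, 0, 2, 10, 8, 4, 2, 8, 10, 8, 4, 8, 2, 1, 10, 8, 1, 8, 0, 10, 8, 4, 2, 10, 8, 1, 2, 6, 10, 8, 4, 8, 0] [([0, 8, 4, 8, 10, 6, 2, 1, 8, 10, 2, 4, 8, 10, 0, 8, 1, 8, 10, 8, 10, 0, 2, 8, 4, 8, 10], 10, true), ([], 9, true)],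
    .norm [6, 8, 6, 8, 0, 8, 6, 1, 9, 0, 10, 8, 0, 2, 1, 8, 6, 10, 8, 4, 6, 2, 1, 8, 10, 4, 8, 0, 4, 0, 8, 10] (some (4, 1, true, [6, 8, 5, 4, 8, 2, 1])) [(31, 13, [0, 5, 6, 0, 4, 6]), (24, 21, [0, 1, 0, 6, 2, 1, 2, 6]), (17, 18, [2, 5, 0, 2, 6, 1, 6]), (10, 18, [0, 5, 2, 6, 0, 2])],
    .prod [0, 8, 4, 8, 10, 6, 2, 1, 8, 10, 4, 8, 0, 4, 0, 8, 10, 6, 8, 6, 8, 0, 8, 6, 1, 9, 0, 10, 8, 0, 2, 1, 8, 6, 10, 8, 4, 10, 8, 4, 8, 0] [([0, 8, 4, 8, 10, 6, 2, 1, 8, 10, 4, 8, 0, 4, 0, 8, 10], 12, true)],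
    .norm [8, 6, 0, 5, 8, 0, 2, 8, 10, 8, 4, 8, 2, 10, 8, 0, 2, 1, 8, 6, 10, 8, 4, 8, 0, 4, 0, 8, 10] (some (4, 5, false, [8, 0, 8, 6, 8, 4, 9, 1])) [(28, 14, [2, 3, 5, 0, 4]), (20, 17, [2, 1, 2, 4, 7, 2]), (13, 16, [4, 0, 4, 2, 0, 2, 0]), (8, 20, [1, 6, 0, 5, 2, 4])],
    .prod [0, 8, 4, 8, 10, 6, 2, 1, 8, 10, 4, 8, 0, 4, 0, 8, 10, 8, 6, 0, 5, 8, 0, 2, 8, 10, 8, 4, 8, 2, 10, 8, 0, 2, 1, 8, 6, 10, 8, 10, 8, 1, 2, 6, 10, 8, 4, 8, 0] [([0, 8, 4, 8, 10, 6, 2, 1, 8, 10, 4, 8, 0, 4, 0, 8, 10], 14, true)],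
    .norm [6, 2, 4, 8, 4, 3, 1, 0, 8, 7, 10, 8, 0, 2, 1, 8, 4, 10, 8, 2, 4, 8, 10, 4, 2, 8, 4, 8, 10] (some (4, 5, false, [5, 9, 6, 2, 4, 8, 4, 8])) [(28, 8, [0, 2, 0, 2, 4, 0, 4, 5]), (22, 18, [1, 2, 4, 7, 9, 6, 9]), (17, 15, [2, 5, 0, 4, 5, 6]), (10, 21, [8, 0, 1, 8, 9])],
    .prod [0, 8, 4, 8, 10, 6, 2, 1, 8, 10, 2, 4, 8, 10, 4, 2, 8, 4, 8, 10, 6, 2, 4, 8, 4, 3, 1, 0, 8, 7, 10, 8, 0, 2, 1, 8, 4, 10, 8, 10, 8, 1, 2, 6, 10, 8, 4, 8, 0] [([0, 8, 4, 8, 10, 6, 2, 1, 8, 10, 2, 4, 8, 10, 4, 2, 8, 4, 8, 10], 16, true)],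
    .norm [4, 8, 5, 2, 9, 0, 4, 1, 8, 3, 10, 9, 10, 8, 0, 2, 1, 8, 6, 4, 8, 1, 2, 0, 8, 10, 7, 8, 0, 1, 3, 4, 8, 4, 2, 6] (some (0, 0, false, [4, 2, 5, 8, 4, 1, 0, 2, 8, 2])) [(25, 29, [0, 2, 1, 2, 7, 0, 2, 4]), (12, 21, [6, 0, 5, 6, 9, 1, 9]), (10, 9, [1, 2, 3, 6, 0, 1, 6, 2])],
    .prod [0, 8, 4, 8, 10, 6, 2, 1, 8, 10, 2, 4, 8, 10, 4, 2, 8, 4, 8, 10, 4, 8, 5, 2, 9, 0, 4, 1, 8, 3, 10, 9, 10, 8, 0, 2, 1, 8, 6, 10, 8, 10, 8, 1, 2, 6, 10, 8, 4, 8, 0] [([0, 8, 4, 8, 10, 6, 2, 1, 8, 10, 2, 4, 8, 10, 4, 2, 8, 4, 8, 10], 18, true), ([], 17, true)],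
    .norm [1, 0, 9, 6, 8, 2, 8, 10, 9, 10, 8, 0, 4, 0, 8, 2, 8, 4, 8, 10] (some (0, 0, false, [1, 2, 4, 2, 6, 9, 0])) [(19, 14, [3, 4, 2, 8, 2, 8, 6]), (9, 17, [0, 4, 2, 9, 0, 9, 6]), (7, 9, [1, 2, 0, 7, 2, 1])],
    .prod [0, 8, 4, 8, 10, 6, 2, 1, 8, 10, 2, 4, 8, 10, 4, 2, 8, 4, 8, 10, 1, 0, 9, 6, 8, 2, 8, 10, 9, 10, 8, 0, 4, 0, 8, 4, 10, 8, 4, 2, 10, 8, 1, 2, 6, 10, 8, 4, 8, 0] [([0, 8, 4, 8, 10, 6, 2, 1, 8, 10, 2, 4, 8, 10, 4, 2, 8, 4, 8, 10], 20, true)],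
    .norm [8, 9, 6, 9, 4, 0, 8, 4, 8, 0, 10, 8, 4, 2, 8, 4, 0, 9, 10, 8, 2, 8, 6, 9, 0, 1, 4, 8, 5, 2, 9, 0, 4, 1, 8, 3, 10, 9, 2, 8, 4, 8, 10, 8, 2, 0, 8, 5, 0, 6, 8] (some (4, 1, true, [4, 3, 8, 0, 4, 0, 8, 4, 3, 0])) [(42, 24, [1, 8, 9, 2, 9, 8, 0, 2]), (36, 22, [0, 2, 1, 4, 2, 0, 7, 2]), (18, 29, [0, 4, 9, 2, 5, 0, 9, 1]), (10, 20, [0, 1, 5, 2, 1, 6, 2, 1])],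
    .prod [0, 8, 4, 8, 10, 6, 2, 1, 8, 10, 4, 8, 0, 4, 0, 8, 10, 8, 9, 6, 9, 4, 0, 8, 4, 8, 0, 10, 8, 4, 2, 8, 4, 0, 10, 8, 0, 4, 0, 8, 4, 10, 8, 4, 2, 10, 8, 1, 2, 6, 10, 8, 4, 8, 0] [([0, 8, 4, 8, 10, 6, 2, 1, 8, 10, 4, 8, 0, 4, 0, 8, 10], 22, true), ([], 15, true), ([], 19, false), ([], 21, true)],
    .norm [0, 4, 8, 2, 4, 8, 10, 0, 8, 4, 8, 0, 4, 9, 6, 9, 8, 6, 8, 6, 8, 0, 8, 6, 1, 9, 0, 10, 8, 0, 2, 1, 8, 6, 10, 8, 4, 10, 8, 4, 8, 0, 8, 4, 8, 10, 2, 8, 4, 8, 10, 2, 4, 8, 10, 6, 1, 8, 10, 1, 2, 8, 0, 9, 2, 1, 2, 8, 0, 10, 8, 0, 2, 1, 8, 2] (some (2, 7, false, [2, 7, 6, 3, 2, 8, 4, 2, 8, 3])) [(69, 30, [1, 2, 0, 9, 1, 2, 9]), (58, 26, [2, 1, 2, 1, 0, 3, 6, 0]), (54, 29, [1, 2, 6, 1, 2,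 1, 4, 6]), (50, 27, [1, 4, 2, 1, 4, 2, 1, 5]), (45, 21, [4, 2, 4, 0, 2, 5]), (37, 31, [1, 0, 2, 1, 3, 5, 0]), (34, 25, [2, 5, 0, 1, 2, 1, 4, 5]), (27, 23, [1, 0, 2, 7, 0, 2, 1, 6]), (6, 46, [4, 9, 0, 8, 1, 0, 8])],
    .prod [8, 4, 8, 10, 2, 8, 4, 8, 10, 2, 4, 8, 10, 6, 1, 8, 10, 1, 2, 8, 0, 9, 2, 1, 2, 8, 0, 10, 8, 0, 2, 1, 8, 2, 10, 8, 0, 4, 0, 8, 4, 10, 8, 4, 2, 10, 8, 1, 2, 6, 10, 8, 4, 8, 0] [([], 13, false), ([], 23, true), ([0, 8, 4, 8, 10, 6, 2, 1, 8, 10, 2, 4, 8, 10, 4, 8, 0, 4, 0, 8, 10], 24, true)],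
    .norm [9, 2, 6, 8, 1, 2, 1, 2, 8, 10, 9, 1, 2, 8, 0, 9, 2, 1, 2, 8, 0, 10, 8, 0, 2, 1, 8, 2, 10, 8, 0, 4, 0, 8, 1, 8, 10] (some (4, 1, true, [1, 8, 6, 3, 0, 8, 0, 8, 0])) [(36, 15, [6, 1, 2, 6, 1, 2, 7]), (28, 23, [1, 4, 2, 0, 2, 5, 0, 4]), (21, 18, [0, 7, 2, 0, 2, 1, 6, 2]), (9, 24, [1, 4, 0, 8, 9, 5, 8])],
    .prod [0, 8, 4, 8, 10, 6, 2, 1, 8, 10, 2, 4, 8, 10, 4, 1, 8, 10, 9, 2, 6, 8, 1, 2, 1, 2, 8, 10, 9, 10, 8, 1, 6, 10, 8, 4, 2, 10, 8, 4, 8, 2, 10, 8, 4, 8] [([0, 8, 4, 8, 10, 6, 2, 1, 8, 10, 2, 4, 8, 10, 4, 1, 8, 10], 26, true), ([], 25, false)],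
    .norm [9, 6, 1, 8, 4, 0, 4, 3, 10, 8, 4, 8, 2, 0, 9, 2, 6, 8, 1, 2, 1, 2, 8, 10, 9, 10, 8, 1, 6] (some (0, 0, false, [7, 6, 0, 2, 8, 1, 0, 1])) [(25, 20, [0, 2, 1, 0, 2, 0, 5]), (23, 9, [2, 3, 8, 5, 2, 9, 8, 0]), (8, 23, [2, 0, 4, 2, 5, 6, 0])],
    .prod [8, 4, 8, 10, 2, 8, 4, 8, 10, 2, 4, 8, 10, 9, 6, 1, 8, 4, 0, 4, 3, 10, 8, 4, 8, 2, 0, 10, 8, 1, 4, 10, 8, 4, 2, 10, 8, 1, 2, 6, 10, 8, 4, 8, 0] [([8, 4, 8, 10, 2, 8, 4, 8, 10, 2, 4, 8, 10], 28, true), ([], 27, false)],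
    .norm [8, 0, 2, 8, 1, 2, 8, 0, 5, 10, 8, 0, 2, 1, 8, 2, 10, 8, 1, 4, 0, 8, 1, 8, 10, 2, 8, 1, 2, 0, 8, 10] (some (4, 1, true, [3, 8, 0, 8, 9, 0, 6, 8, 0])) [(31, 15, [6, 2, 1, 4, 0, 6]), (24, 21, [0, 8, 6, 0, 6, 8, 5]), (16, 18, [7, 2, 4, 2, 1, 2]), (9, 17, [2, 0, 5, 2, 6, 1, 2])],
    .prod [0, 8, 4, 8, 10, 6, 2, 1, 8, 10, 2, 4, 8, 10, 0, 8, 1, 8, 10, 2, 8, 1, 2, 0, 8, 10, 8, 0, 2, 8, 1, 2, 8, 0, 5, 10, 8, 0, 2, 1, 8, 2, 10, 8, 1, 4, 10, 8, 4, 2, 10, 8, 1, 2, 6, 10, 8, 4, 8, 0] [([0, 8, 4, 8, 10, 6, 2, 1, 8, 10, 2, 4, 8, 10, 0, 8, 1, 8, 10, 2, 8, 1, 2, 0, 8, 10], 30, true)],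
    .norm [5, 4, 8, 0, 8, 6, 8, 0, 10, 8, 4, 8, 2, 0, 2, 8, 1, 2, 0, 8, 10, 8, 0, 2, 8, 1, 2, 8, 0, 5, 10, 8, 0, 2, 1, 8, 2, 0, 2, 8, 4, 8, 10, 3, 4, 0, 4, 8, 1, 6, 9] (some (4, 5, false, [0, 2, 8, 1, 2, 1, 8, 9, 6])) [(42, 23, [4, 0, 2, 1, 5, 2, 5]), (30, 23, [1, 5, 8, 2, 8, 6, 2, 0]), (20, 21, [1, 4, 0, 1, 2, 0, 5]), (8, 27, [1, 6, 2, 1, 2, 0, 1, 6])],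
    .prod [8, 4, 8, 10, 2, 8, 4, 8, 10, 2, 4, 8, 10, 5, 4, 8, 0, 8, 6, 8, 0, 10, 8, 4, 8, 2, 0, 10, 8, 1, 8, 0, 10, 8, 4, 2, 10, 8, 1, 2, 6, 10, 8, 4, 8, 0] [([8, 4, 8, 10, 2, 8, 4, 8, 10, 2, 4, 8, 10], 32, true), ([], 29, true), ([], 31, false)],
    .norm [4, 9, 2, 9, 4, 8, 4, 8, 0, 1, 10, 9, 10, 8, 4, 8, 2, 1, 0, 2, 8, 4, 8, 10, 0, 8, 6, 8, 0, 8, 4, 5] (some (0, 0, false, [4, 2, 5, 8, 4, 1, 0, 2, 8, 2])) [(23, 27, [0, 2, 5, 0, 6, 2, 4, 5]), (12, 19, [5, 8, 2, 8, 6, 2, 4]), (10, 9, [5, 9, 8, 1, 0, 8, 4])],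
    .prod [8, 4, 8, 10, 2, 8, 4, 8, 10, 2, 4, 8, 10, 4, 9, 2, 9, 4, 8, 4, 8, 0, 1, 10, 9, 10, 8, 4, 8, 2, 1, 10, 8, 1, 8, 0, 10, 8, 4, 2, 10, 8, 1, 2, 6, 10, 8, 4, 8, 0] [([8, 4, 8, 10, 2, 8, 4, 8, 10, 2, 4, 8, 10], 34, true), ([], 33, true)],
    .norm [6, 9, 6, 3, 0, 1, 10, 8, 0, 4, 0, 8, 4, 2, 4, 8, 10, 4, 9, 2, 9, 4, 8, 4, 8, 0, 1, 10, 9, 8, 2, 4, 8, 10, 2, 0, 8, 1, 2, 9, 4, 8, 2, 0] (some (4, 5, false, [9, 2, 1, 0, 4, 2, 6, 0])) [(33, 24, [1, 4, 9, 2, 5, 9, 1, 6]), (27, 18, [9, 4, 2, 6, 9, 0]), (16, 20, [5, 6, 2, 4, 5]), (6, 23, [0, 3, 5, 2, 1, 2, 0, 6])],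
    .prod [0, 8, 4, 8, 10, 6, 2, 1, 8, 10, 2, 4, 8, 10, 0, 8, 1, 8, 10, 8, 10, 0, 2, 8, 4, 8, 10, 6, 9, 6, 3, 0, 1, 10, 8, 0, 4, 0, 8, 4, 10, 8, 4, 8, 2, 10, 8, 4, 8] [([0, 8, 4, 8, 10, 6, 2, 1, 8, 10, 2, 4, 8, 10, 0, 8, 1, 8, 10, 8, 10, 0, 2, 8, 4, 8, 10], 36, true), ([], 11, true), ([], 35, false)],
    .norm [6, 0, 2, 8, 4, 8, 5, 1, 10, 8, 4, 8, 2, 8, 0, 4, 0, 8, 10, 1, 0, 3, 6, 9, 6, 10, 8, 4, 8, 2, 0] (some (0, 0, false, [2, 4, 8, 4, 9, 2, 1, 8, 9, 4, 0])) [(25, 23, [2, 0, 2, 3, 4, 6, 0, 1]), (18, 15, [0, 3, 6, 2, 1, 6, 2, 0]), (8, 18, [2, 4, 0, 1, 2, 1, 4, 5])],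
    .prod [0, 8, 4, 8, 10, 6, 2, 1, 8, 10, 2, 4, 8, 10, 0, 8, 1, 8, 10, 8, 10, 6, 0, 2, 8, 4, 8, 5, 1, 10, 8, 4, 8, 2, 4, 10, 8, 4, 8, 2, 10, 8, 4, 8] [([0, 8, 4, 8, 10, 6, 2, 1, 8, 10, 2, 4, 8, 10, 0, 8, 1, 8, 10, 8, 10], 38, true), ([], 37, true)],
    .prod [8, 4, 3, 8, 10, 0, 2, 9, 1, 2, 0, 4, 10, 9, 10, 8, 4, 8] [([8, 4, 3, 8, 10], 1, true)],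
    .norm [8, 2, 6, 0, 8, 7, 0, 8, 6, 10, 8, 4, 2, 8, 4, 0, 10, 8, 0, 4, 0, 8, 10, 8, 4, 8, 2, 9, 10, 4, 0, 2, 1, 9, 2, 0] (some (4, 1, true, [2, 8, 5, 4, 2, 8, 0, 2, 1])) [(28, 22, [0, 6, 9, 0, 7, 9]), (22, 20, [4, 6, 9, 2, 9, 1, 6]), (16, 16, [0, 4, 2, 5, 0, 6]), (9, 17, [4, 0, 7, 2, 0, 2, 6])],
    .prod [8, 4, 3, 8, 10, 8, 2, 6, 0, 8, 7, 0, 8, 6, 10, 8, 4, 2, 8, 4, 0, 10, 8, 0, 4, 0, 8, 10, 8, 4, 8, 2, 10, 8, 4, 8] [([8, 4, 3, 8, 10], 41, true), ([], 40, true)],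
    .norm [6, 2, 8, 4, 8, 2, 9, 1, 0, 6, 10, 9, 0, 4, 8, 2, 4, 8, 10, 6, 8, 0, 7, 8, 0, 6, 2, 8, 10, 8, 3, 4, 8, 10] (some (4, 1, true, [6, 8, 9, 6, 2, 9, 6, 8, 1])) [(33, 15, [8, 1, 0, 5, 8, 4, 6]), (28, 20, [0, 4, 2, 1, 2, 0, 5, 6]), (18, 21, [0, 2, 3, 8, 2, 5, 8, 9]), (10, 20, [0, 2, 7, 0, 2, 4])],
    .prod [10, 6, 2, 8, 4, 8, 2, 9, 1, 0, 6, 10, 9, 10, 8, 0, 4, 0, 8, 10, 8, 4, 8, 2, 10, 8, 4, 8] [([10], 43, true), ([], 42, true)],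
    .norm [4, 2, 4, 8, 4, 8, 5, 2, 10, 8, 4, 8, 2, 8, 0, 4, 0, 8, 10, 9, 10, 6, 0, 1, 9, 2, 8, 4, 8, 2, 6] (some (0, 0, false, [8, 4, 8, 2, 4, 8, 4, 0, 2, 1])) [(20, 29, [1, 2, 7, 9, 0, 9, 6]), (18, 9, [6, 2, 1, 5, 6, 2, 1, 5]), (8, 18, [0, 1, 6, 0, 2, 4, 2, 7])],
    .prod [10, 4, 2, 4, 8, 4, 8, 5, 2, 10, 8, 4, 8, 2, 10, 8, 4, 8, 2, 10, 8, 4, 8] [([10], 45, true), ([], 44, true)],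
    .norm [8, 2, 6, 0, 5, 2, 1, 10, 8, 4, 8, 0, 4, 0, 10, 4, 2, 4, 8, 4, 8, 5, 2, 10, 8, 4, 8, 2, 4, 2, 8, 4, 8, 10, 1, 5, 8, 4, 8, 2, 0, 6] (some (4, 1, true, [5, 0, 1, 8, 6, 0, 5, 1])) [(33, 22, [0, 2, 1, 0, 2, 4, 0, 4]), (23, 26, [0, 1, 9, 2, 5, 9, 6]), (14, 19, [4, 0, 4, 8, 9, 2, 9, 8]), (7, 19, [1, 0, 7, 2, 1, 2, 4, 0])],
    .prod [0, 8, 4, 8, 10, 6, 2, 1, 8, 10, 2, 4, 8, 10, 0, 8, 1, 8, 10, 8, 10, 8, 2, 6, 0, 5, 2, 1, 10, 8, 4, 8, 0, 4, 0] [([0, 8, 4, 8, 10, 6, 2, 1, 8, 10, 2, 4, 8, 10, 0, 8, 1, 8, 10, 8, 10], 47, true), ([], 39, true), ([], 46, false)],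
    .norm [2, 8, 0, 8, 4, 1, 0, 8, 4, 2, 8, 4, 2, 9, 5, 8, 10, 0, 2, 0, 2, 3, 8, 4, 9, 6, 10, 0, 7, 8, 6, 0, 1, 2, 4, 8, 6, 2, 4, 5, 8, 2, 4, 8, 0, 10, 1, 8, 2, 3, 4, 9, 8, 0, 4, 1, 0, 8, 4, 2, 8, 4, 2, 9, 5, 8, 10, 0, 2, 0, 2, 3, 8, 4, 9, 6, 10, 0, 7, 8, 6, 0, 1, 2, 4, 8, 6, 2, 4, 0, 8, 9, 4, 3, 2, 8, 1, 10, 0, 8, 4, 2, 8, 5, 8, 0, 8, 2, 0, 8, 4, 8, 10, 6, 2, 1, 8, 10, 2, 4, 8, 10, 0, 8, 1, 8, 10, 8, 10, 8, 2, 6, 0, 5, 2, 1, 10, 8, 4, 8, 0, 4, 0] none [(97, 14, [5, 9, 1, 2, 4, 9, 1]), (76, 31, [0, 4, 2, 8, 2, 8, 0, 2, 6]), (66, 21, [0, 2, 1, 0, 2, 1, 4]), (45, 31, [1, 4, 2, 4, 0, 5, 2, 0]), (26, 27, [2, 1, 5, 2, 1, 7, 2, 4]), (16, 24, [0, 4, 7, 9, 8, 2, 8, 9])]]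

/-- Records. -/
def commuteRecs1 : List Rec :=
  [.prod [2, 8, 0, 8, 4, 1, 0, 8, 4, 2, 8, 4, 2, 9, 5, 8, 10, 0, 2, 0, 2, 3, 8, 4, 9, 6, 10, 0, 7, 8, 6, 0, 1, 2, 4, 8, 6, 2, 4, 5, 8, 2, 4, 8, 0, 10, 1, 8, 2, 3, 4, 9, 8, 0, 4, 1, 0, 8, 4, 2, 8, 4, 2, 9, 5, 8, 10, 0, 2, 0, 2, 3, 8, 4, 9, 6, 10, 0, 7, 8, 6, 0, 1, 2, 4, 8, 6, 2, 4, 0, 8, 9, 4, 3, 2, 8, 1, 10, 0, 8, 4, 2, 8, 5, 8, 0, 8, 2] [([], 49, true), ([], 48, false)],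
    .prod [4, 5, 8, 2, 4, 8, 0, 10, 1, 8, 2, 3, 4, 9, 8, 0, 4, 1, 0, 8, 4, 2, 8, 4, 2, 9, 5, 8, 10, 0, 2, 0, 2, 3, 8, 4, 9, 6, 10, 0, 7, 8, 6, 0, 1, 2, 4, 8, 6, 2, 4, 5, 8, 2, 4, 8, 0, 10, 1, 8, 2, 3, 4, 9, 8, 0, 4, 1, 0, 8, 4, 2, 8, 4, 2, 9, 5, 8, 10, 0, 2, 0, 2, 3, 8, 4, 9, 6, 10, 0, 7, 8, 6, 0, 1, 2, 4, 8, 6, 2] [([4, 5, 8, 2, 4, 8, 0, 10, 1, 8, 2, 3, 4, 9, 8, 0, 8, 0, 8, 2], 50, true), ([], 0, true)]]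

/-- The records. -/
def commuteRecs : List Rec :=
  commuteRecs0 ++ commuteRecs1

/-- The position of the relation. -/
def commuteAt : Nat :=
  51

end Cfsg.Lib.Extra.SuzUnique.RelData
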